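import Groth.Agent.H82.Contract.Split

/-!
# The cell map of a regular cocharacter is a monomorphism
-/

set_option autoImplicit false
set_option linter.style.haveILetI false
set_option linter.unusedSectionVars false
universe u

open CategoryTheory MonoidalCategory CartesianMonoidalCategory MonObj GrpObj AlgebraicGeometry
open Groth.Agent.Lib.RedPts Groth.Agent.H82.BigCell
open Groth.Agent.H82.RankOne (P P_eq)

namespace Groth.Agent.H82.Contract

variable {S : Scheme.{u}} {G : Over S} [GrpObj G] (D : Red.SplitRed G)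

/-- The limit cocharacter in `G` of a functional. -/
noncomputable abbrev gcochar (l : D.M →+ ℤ) : Red.Gm S ⟶ G := cochar D l ≫ D.i

variable {D} {l : D.M →+ ℤ} {n : ℕ} {e : Fin n → D.idx}

/-- Products of positive roots are contracted. -/
theorem isLimPt_pos (he : ∀ k, 0 < l (D.P.root (e k))) {X : Over S} (z : X ⟶ RedSub.pow (Red.Ga S) n) :
    IsLimPt (gcochar D l) (z ≫ RedSub.prodMap (Red.Ga S) n fun k => D.u (e k)) 1 := by
  rw [comp_prodMap]
  refine isLimPt_prodPts fun k => ?_
  rw [← Category.assoc, P_eq]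
  refine isLimPt_root (d := (l (D.P.root (e k))).toNat) (isRootPts D (e k)) (by have := he k; omega) ?_ _
  rw [Int.toNat_of_nonneg (he k).le]
  exact hasDeg D l _

/-- Products of negative roots are contracted by the opposite cocharacter. -/
theorem isLimPt_neg (he : ∀ k, l (D.P.root (e k)) < 0) {X : Over S} (z : X ⟶ RedSub.pow (Red.Ga S) n) :
    IsLimPt (gcochar D l)⁻¹ (z ≫ RedSub.prodMap (Red.Ga S) n fun k => D.u (e k)) 1 := by
  rw [show (gcochar D l)⁻¹ = (cochar D l)⁻¹ ≫ D.i from (GrpObj.inv_comp (cochar D l) D.i).symm, comp_prodMap]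
  refine isLimPt_prodPts fun k => ?_
  rw [← Category.assoc, P_eq]
  refine isLimPt_root (d := (-l (D.P.root (e k))).toNat) (isRootPts D (e k)) (by have := he k; omega) ?_ _
  rw [Int.toNat_of_nonneg (by have := he k; omega)]
  exact HasDeg.inv (hasDeg D l _)

theorem isLimPt_torus_pt {X : Over S} (t : X ⟶ D.T) :
    IsLimPt (gcochar D l) (t ≫ D.i) (t ≫ D.i) :=
  isLimPt_torus (torus_comm D) t

theorem mono_prodMap_pos (h : Function.Injective e) (he : ∀ k, 0 < l (D.P.root (e k))) :
    IsClosedImmersion (RedSub.prodMap (Red.Ga S) n fun k => D.u (e k)).left := by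
  haveI := isAffineHom D
  exact isClosedImmersion_prodMap (ν := cochar D l) (d := fun k => (l (D.P.root (e k))).toNat)
    (fun k => isRootPts D (e k))
    (fun k => by rw [Int.toNat_of_nonneg (he k).le]; exact hasDeg D l _)
    (fun k => by have := he k; omega) (separated D e h)

theorem mono_prodMap_neg (h : Function.Injective e) (he : ∀ k, l (D.P.root (e k)) < 0) :
    IsClosedImmersion (RedSub.prodMap (Red.Ga S) n fun k => D.u (e k)).left := by
  haveI := isAffineHom D
  exact isClosedImmersion_prodMap (ν := (cochar D l)⁻¹) (d := fun k => (-l (D.P.root (e k))).toNat)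
    (fun k => isRootPts D (e k))
    (fun k => by rw [Int.toNat_of_nonneg (by have := he k; omega)]; exact HasDeg.inv (hasDeg D l _))
    (fun k => by have := he k; omega) (separated D e h)

theorem mono_of_isClosedImmersion {X Y : Over S} (f : X ⟶ Y) (h : IsClosedImmersion f.left) : Mono f :=
  haveI : Mono ((Over.forget S).map f) := inferInstanceAs (Mono f.left)
  (Over.forget S).mono_of_mono_map this

/-- The value of the cell map at a point. -/
theorem comp_cellMap {m : ℕ} (e' : Fin m → D.idx) {X : Over S}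
    (z : X ⟶ RedSub.pow (Red.Ga S) n ⊗ (D.T ⊗ RedSub.pow (Red.Ga S) m)) :
    z ≫ RedSub.cellMap D e e' = ((z ≫ fst _ _) ≫ RedSub.prodMap (Red.Ga S) n fun k => D.u (e k)) *
      (((z ≫ snd _ _ ≫ fst _ _) ≫ D.i) *
        ((z ≫ snd _ _ ≫ snd _ _) ≫ RedSub.prodMap (Red.Ga S) m fun k => D.u (e' k))) := by
  rw [RedSub.cellMap, MonObj.comp_mul, MonObj.comp_mul]
  simp only [Category.assoc]

/-- Factors with given limits are unique. -/
theorem factors_unique [IsAffineHom G.hom] {c : Red.Gm S ⟶ G} [IsMonHom c] {X : Over S}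
    {y y' t t' x x' : X ⟶ G} (hy : IsLimPt c⁻¹ y 1) (hy' : IsLimPt c⁻¹ y' 1) (ht : IsLimPt c t t)
    (ht' : IsLimPt c t' t') (hx : IsLimPt c x 1) (hx' : IsLimPt c x' 1)
    (h : y * (t * x) = y' * (t' * x')) : y = y' ∧ t = t' ∧ x = x' := by
  have hv : y'⁻¹ * y = t' * (x' * x⁻¹) * t⁻¹ := by
    rw [eq_mul_inv_iff_mul_eq, ← _root_.mul_assoc, eq_mul_inv_iff_mul_eq, _root_.mul_assoc, _root_.mul_assoc,
      inv_mul_eq_iff_eq_mul, h]
  have h1 : IsLimPt c⁻¹ (y'⁻¹ * y) 1 := by
    have := hy'.inv.mul hy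
    rwa [inv_one, _root_.one_mul] at this
  have h2 : IsLimPt c (y'⁻¹ * y) (t' * t⁻¹) := by
    rw [hv]
    have := (ht'.mul (hx'.mul hx.inv)).mul ht.inv
    rwa [inv_one, _root_.mul_one, _root_.mul_one] at this
  obtain ⟨a, b⟩ := h2.eq_of_both h1
  rw [b] at a
  have et : t' = t := mul_inv_eq_one.1 a.symm
  have ey : y' = y := inv_mul_eq_one.1 b
  rw [ey, et] at h
  exact ⟨ey.symm, et.symm, mul_left_cancel (mul_left_cancel h)⟩

set_option maxHeartbeats 1000000 in
/-- The cell map is a monomorphism. -/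
theorem mono_cellMap {m : ℕ} {e' : Fin m → D.idx} (h : Function.Injective e) (h' : Function.Injective e')
    (he : ∀ k, l (D.P.root (e k)) < 0) (he' : ∀ k, 0 < l (D.P.root (e' k))) :
    Mono (RedSub.cellMap D e e') := by
  haveI := isAffineHom D
  haveI := mono_of_isClosedImmersion _ (mono_prodMap_neg h he)
  haveI := mono_of_isClosedImmersion _ (mono_prodMap_pos h' he')
  refine ⟨fun {X} z z' hz => ?_⟩
  have hz := (comp_cellMap e' z).symm.trans (hz.trans (comp_cellMap e' z'))
  obtain ⟨ey, et, ex⟩ := factors_unique (isLimPt_neg he _) (isLimPt_neg he _) (isLimPt_torus_pt (l := l) _)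
    (isLimPt_torus_pt (l := l) _) (isLimPt_pos he' _) (isLimPt_pos he' _) hz
  apply CartesianMonoidalCategory.hom_ext
  · exact (cancel_mono _).1 ey
  · apply CartesianMonoidalCategory.hom_ext
    · exact (Category.assoc _ _ _).trans (((cancel_mono D.i).1 et).trans (Category.assoc _ _ _).symm)
    · exact (Category.assoc _ _ _).trans (((cancel_mono _).1 ex).trans (Category.assoc _ _ _).symm)

end Groth.Agent.H82.Contract
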