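import Groth.Agent.H82.Contract.Laurent
import Groth.Agent.H82.Contract.Cell
import Groth.Agent.H2.Rigid.EtaleUnram
import Groth.Agent.Lib.Kaehler.SmoothChart
import Groth.Agent.Lib.Tori.DS
import Mathlib.LinearAlgebra.SymmetricAlgebra.Basis

/-!
# Relative dimensions of the cell
-/

set_option autoImplicit false
set_option linter.style.haveILetI false
universe u

open CategoryTheory Limits MonoidalCategory CartesianMonoidalCategory MonObj GrpObj AlgebraicGeometry

namespace Groth.Agent.H82.Contract

theorem smoothOfRelativeDimension_spec {R A : Type u} [CommRing R] [CommRing A] {n : ℕ} (f : R →+* A)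
    (h : RingHom.IsStandardSmoothOfRelativeDimension n f) :
    SmoothOfRelativeDimension n (Spec.map (CommRingCat.ofHom f)) := by
  rw [HasRingHomProperty.Spec_iff (P := @SmoothOfRelativeDimension n)]
  exact RingHom.locally_of RingHom.isStandardSmoothOfRelativeDimension_respectsIso _ h

theorem smoothOfRelativeDimension_tensor {S : Scheme.{u}} {X Y : Over S} {m n : ℕ}
    [SmoothOfRelativeDimension m X.hom] [hY : SmoothOfRelativeDimension n Y.hom] :
    SmoothOfRelativeDimension (m + n) (X ⊗ Y).hom := by
  haveI : MorphismProperty.IsStableUnderBaseChange (@SmoothOfRelativeDimension.{u} n) :=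
    smoothOfRelativeDimension_isStableUnderBaseChange n
  haveI : SmoothOfRelativeDimension n (pullback.fst X.hom Y.hom) :=
    MorphismProperty.of_isPullback (P := @SmoothOfRelativeDimension n) (IsPullback.of_hasPullback X.hom Y.hom).flip hY
  rw [Nat.add_comm]
  exact smoothOfRelativeDimension_comp n m (pullback.fst X.hom Y.hom) X.hom

variable (S : Scheme.{u})

theorem smoothOfRelativeDimension_DS (r : ℕ) : SmoothOfRelativeDimension r (Red.DS S (Fin r → ℤ)).hom := by
  haveI := smoothOfRelativeDimension_isStableUnderBaseChange r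
  refine MorphismProperty.of_isPullback (IsPullback.of_hasPullback _ _) ?_
  exact smoothOfRelativeDimension_spec _ (isStandardSmooth_lattice r (ULift.{u} ℤ))

theorem smoothOfRelativeDimension_Ga : SmoothOfRelativeDimension 1 (Red.Ga S).hom := by
  haveI := smoothOfRelativeDimension_isStableUnderBaseChange 1
  refine MorphismProperty.of_isPullback (IsPullback.of_hasPullback _ _) ?_
  refine smoothOfRelativeDimension_spec (n := 1) _ ?_
  let e := SymmetricAlgebra.equivMvPolynomial (Module.Basis.singleton (Fin 1) (ULift.{u} ℤ))
  have h := RingHom.IsStandardSmoothOfRelativeDimension.comp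
    (RingHom.IsStandardSmoothOfRelativeDimension.equiv e.symm.toRingEquiv)
    ((RingHom.isStandardSmoothOfRelativeDimension_algebraMap _).mpr
      (Groth.Agent.Lib.ProjSpace.Basic.isStandardSmoothOfRelativeDimension_mvPolynomial (ULift.{u} ℤ) 1))
  rw [zero_add] at h
  convert h using 1
  exact RingHom.ext fun x => (e.symm.commutes x).symm

theorem smoothOfRelativeDimension_of_iso {X Y : Over S} (e : X ≅ Y) {n : ℕ}
    (h : SmoothOfRelativeDimension n Y.hom) : SmoothOfRelativeDimension n X.hom := by
  haveI : IsIso e.hom.left := ((Over.forget _).mapIso e).isIso_hom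
  haveI : MorphismProperty.RespectsIso (@SmoothOfRelativeDimension.{u} n) :=
    (smoothOfRelativeDimension_isStableUnderBaseChange.{u} n).respectsIso
  rw [← Over.w e.hom, MorphismProperty.cancel_left_of_respectsIso (@SmoothOfRelativeDimension n)]
  exact h

theorem smoothOfRelativeDimension_pow : ∀ n : ℕ, SmoothOfRelativeDimension n (RedSub.pow (Red.Ga S) n).hom
  | 0 => inferInstanceAs (SmoothOfRelativeDimension 0 (𝟙 S))
  | n + 1 => by
    haveI := smoothOfRelativeDimension_Ga S
    haveI : SmoothOfRelativeDimension n (RedSub.pow (Red.Ga S) n).hom := smoothOfRelativeDimension_pow n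
    have h := smoothOfRelativeDimension_tensor (m := 1) (n := n) (X := Red.Ga S) (Y := RedSub.pow (Red.Ga S) n)
    rw [Nat.add_comm 1 n] at h
    exact h

theorem fibreDimAt_of_smoothOfRelativeDimension {X Y : Scheme.{u}} (f : X ⟶ Y) {n : ℕ}
    [h : SmoothOfRelativeDimension n f] (x : X) : FlatMor.fibreDimAt f x = (n : WithBot ℕ∞) := by
  obtain ⟨U, hU, V, hV, hx, e, hs⟩ := h.exists_isStandardSmoothOfRelativeDimension x
  exact Groth.Agent.Lib.Kaehler.SmoothChart.fibreDimAt_of_chart hU hV e hs hx

end Groth.Agent.H82.Contract
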