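import Mathlib.LinearAlgebra.RootSystem.Finite.Lemmas

/-!
# Positive combinations of two roots whose sum is not a root
-/

set_option autoImplicit false

namespace Groth.Agent.H82.Contract

variable {idx M N : Type*} [AddCommGroup M] [AddCommGroup N] [Module.Free ℤ M] [Module.IsTorsionFree ℤ N] [Finite idx]
  (P : RootPairing idx ℤ M N) [P.IsCrystallographic]

theorem pairingIn_int (i j : idx) : P.pairingIn ℤ i j = P.pairing i j := by
  simpa using P.algebraMap_pairingIn ℤ i j

/-- If `a + b` is neither zero nor a root, no combination with positive coefficients is a root. -/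
theorem no_root {a b : idx} (h0 : P.root a + P.root b ≠ 0) (hab : P.root a + P.root b ∉ Set.range P.root)
    {i j : ℕ} (hi : 1 ≤ i) (hj : 1 ≤ j) (r : idx) : P.root r ≠ (i : ℤ) • P.root a + (j : ℤ) • P.root b := by
  intro hr
  have hne : P.root a ≠ -P.root b := fun h => h0 (by rw [h, neg_add_cancel])
  have hp : 0 ≤ P.pairingIn ℤ a b := not_lt.1 fun h => hab (P.root_add_root_mem_of_pairingIn_neg h hne)
  have hq : 0 ≤ P.pairingIn ℤ b a := not_lt.1 fun h =>
    hab (add_comm (P.root b) (P.root a) ▸ P.root_add_root_mem_of_pairingIn_neg h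
      (fun h' => h0 (by rw [h', add_neg_cancel])))
  rw [pairingIn_int] at hp hq
  have hr1 : P.pairing r b = i * P.pairing a b + 2 * j := by
    rw [← P.root_coroot_eq_pairing r b, hr, map_add, LinearMap.add_apply, map_smul, map_smul,
      LinearMap.smul_apply, LinearMap.smul_apply, P.root_coroot_eq_pairing, P.root_coroot_eq_pairing,
      P.pairing_same, smul_eq_mul, smul_eq_mul]
    ring
  have hr2 : P.pairing r a = 2 * i + j * P.pairing b a := by
    rw [← P.root_coroot_eq_pairing r a, hr, map_add, LinearMap.add_apply, map_smul, map_smul,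
      LinearMap.smul_apply, LinearMap.smul_apply, P.root_coroot_eq_pairing, P.root_coroot_eq_pairing,
      P.pairing_same, smul_eq_mul, smul_eq_mul]
    ring
  have key : ∀ x : idx, 4 ≤ P.pairing r x → P.root r = (2 : ℤ) • P.root x ∧ P.pairing r x = 4 := fun x hx => by
    have h1 := P.pairingIn_pairingIn_mem_set_of_isCrystallographic x r
    simp only [pairingIn_int, Set.mem_insert_iff, Set.mem_singleton_iff, Prod.mk.injEq] at h1
    have h2 : P.pairing x r = 1 ∧ P.pairing r x = 4 := by omega
    refine ⟨((P.pairingIn_one_four_iff ℤ x r).1 ?_), h2.2⟩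
    rw [pairingIn_int, pairingIn_int]
    exact h2
  have hab1 : 0 ≤ (i : ℤ) * P.pairing a b := by positivity
  have hba1 : 0 ≤ (j : ℤ) * P.pairing b a := by positivity
  rcases Nat.lt_or_ge j 2 with hj2 | hj2
  · rcases Nat.lt_or_ge i 2 with hi2 | hi2
    · obtain rfl : i = 1 := by omega
      obtain rfl : j = 1 := by omega
      exact hab ⟨r, by simpa using hr⟩
    · obtain ⟨h1, h2⟩ := key a (by omega)
      obtain rfl : i = 2 := by omega
      rw [h1, Nat.cast_ofNat] at hr
      exact (smul_ne_zero (show (j : ℤ) ≠ 0 by exact_mod_cast (by omega : j ≠ 0)) (P.ne_zero b)) (left_eq_add.1 hr)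
  · obtain ⟨h1, h2⟩ := key b (by omega)
    obtain rfl : j = 2 := by omega
    rw [h1, Nat.cast_ofNat] at hr
    exact (smul_ne_zero (show (i : ℤ) ≠ 0 by exact_mod_cast (by omega : i ≠ 0)) (P.ne_zero a)) (right_eq_add.1 hr)

end Groth.Agent.H82.Contract
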