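import Groth.Agent.H82.Contract.Gen
import Groth.Agent.H82.Contract.Comb

/-!
# Commuting root groups
-/

set_option autoImplicit false
set_option linter.style.haveILetI false
set_option linter.unusedSectionVars false
universe u

open CategoryTheory MonoidalCategory CartesianMonoidalCategory MonObj GrpObj AlgebraicGeometry
open Groth.Agent.Lib.RedPts Groth.Agent.H82.BigCell
open Groth.Agent.H82.RankOne (P P_eq P_zero P_comp)

namespace Groth.Agent.H82.Contract

section Alg

variable {R A M : Type*} [CommRing R] [CommRing A] [AddCommGroup M] {σ : Type*} [Fintype σ]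

/-- Grading of polynomials by a lattice. -/
noncomputable def grade (g : MvPolynomial σ R →+* A) (v : σ → M) :
    MvPolynomial σ R →+* AddMonoidAlgebra A M :=
  MvPolynomial.eval₂Hom (AddMonoidAlgebra.singleZeroRingHom.comp (g.comp MvPolynomial.C))
    (fun k => AddMonoidAlgebra.single (v k) (g (MvPolynomial.X k)))

theorem grade_monomial (g : MvPolynomial σ R →+* A) (v : σ → M) (e : σ →₀ ℕ) (r : R) :
    grade g v (MvPolynomial.monomial e r) =
      AddMonoidAlgebra.single (Finsupp.weight v e) (g (MvPolynomial.monomial e r)) := by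
  induction e using Finsupp.induction with
  | zero =>
    rw [map_zero, MvPolynomial.monomial_zero', grade, MvPolynomial.eval₂Hom_C]
    rfl
  | single_add i k e hi hk ih =>
    rw [MvPolynomial.monomial_single_add, map_mul, map_pow, ih, map_mul g, map_pow g, grade,
      MvPolynomial.eval₂Hom_X', AddMonoidAlgebra.single_pow, AddMonoidAlgebra.single_mul_single, map_add,
      Finsupp.weight_single]

theorem coeff_grade [DecidableEq M] (g : MvPolynomial σ R →+* A) (v : σ → M) (j : M) (p : MvPolynomial σ R) :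
    (grade g v p).coeff j = g (MvPolynomial.weightedHomogeneousComponent v j p) := by
  induction p using MvPolynomial.induction_on' with
  | monomial e r =>
    rw [grade_monomial, AddMonoidAlgebra.coeff_single, Finsupp.single_apply]
    by_cases h : Finsupp.weight v e = j
    · rw [if_pos h, MvPolynomial.weightedHomogeneousComponent_of_mem
        (MvPolynomial.isWeightedHomogeneous_monomial v e r h), if_pos rfl]
    · rw [if_neg h, MvPolynomial.weightedHomogeneousComponent_of_mem
        (MvPolynomial.isWeightedHomogeneous_monomial v e r rfl), if_neg (Ne.symm h), map_zero]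
  | add p q hp hq => rw [map_add, AddMonoidAlgebra.coeff_add, Finsupp.add_apply, hp, hq, map_add, map_add]

theorem coeff_kill [DecidableEq σ] (k : σ) (p : MvPolynomial σ R) {e : σ →₀ ℕ} (he : e k = 0) :
    (MvPolynomial.eval₂Hom MvPolynomial.C (Function.update MvPolynomial.X k 0) p).coeff e = p.coeff e := by
  induction p using MvPolynomial.induction_on' with
  | monomial d r =>
    rw [MvPolynomial.eval₂Hom_monomial]
    by_cases h : d k = 0
    · rw [MvPolynomial.monomial_eq, Finsupp.prod, Finsupp.prod]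
      refine congrArg (fun q => MvPolynomial.coeff e (MvPolynomial.C r * q)) (Finset.prod_congr rfl fun j hj => ?_)
      rw [Function.update_of_ne (show j ≠ k from fun hjk => Finsupp.mem_support_iff.1 hj (by rw [hjk]; exact h))]
    · rw [Finsupp.prod, Finset.prod_eq_zero (Finsupp.mem_support_iff.2 h), mul_zero, MvPolynomial.coeff_zero,
        MvPolynomial.coeff_monomial, if_neg]
      · exact fun hde => h (by rw [hde]; exact he)
      · rw [Function.update_self, zero_pow h]
  | add p q hp hq => rw [map_add, MvPolynomial.coeff_add, MvPolynomial.coeff_add, hp, hq]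

end Alg

variable {S : Scheme.{u}} {G : Over S} [GrpObj G] {D : Red.SplitRed G}

theorem prodPts_one {X : Over S} {n : ℕ} {a : Fin n → (X ⟶ G)} (h : ∀ k, a k = 1) : prodPts n a = 1 := by
  induction n with
  | zero => rfl
  | succ n ih => rw [prodPts_succ, h 0, _root_.one_mul, ih fun k => h k.succ]

/-- The commutator of two root elements. -/
noncomputable def comm (a b : D.idx) {X : Over S} (x y : Γ(X.left, ⊤)) : X ⟶ G :=
  P (D.u a) x * P (D.u b) y * (P (D.u a) x)⁻¹ * (P (D.u b) y)⁻¹

theorem comm_comp (a b : D.idx) {X X' : Over S} (c : X' ⟶ X) (x y : Γ(X.left, ⊤)) :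
    c ≫ comm a b x y = comm a b (c.left.appTop x) (c.left.appTop y) := by
  simp only [comm, MonObj.comp_mul, GrpObj.comp_inv, P_comp]

theorem comm_zero_left (a b : D.idx) {X : Over S} (y : Γ(X.left, ⊤)) : comm a b (0 : Γ(X.left, ⊤)) y = 1 := by
  rw [comm, P_zero, inv_one, _root_.one_mul, _root_.mul_one, mul_inv_cancel]

theorem comm_zero_right (a b : D.idx) {X : Over S} (x : Γ(X.left, ⊤)) : comm a b x (0 : Γ(X.left, ⊤)) = 1 := by
  rw [comm, P_zero, inv_one, _root_.mul_one, _root_.mul_one, mul_inv_cancel]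

theorem torus_comm_root (a b : D.idx) {X : Over S} (t : X ⟶ D.T) (x y : Γ(X.left, ⊤)) :
    (t ≫ D.i) * comm a b x y = comm a b (Red.gmFn (t ≫ chr D (D.P.root a)) * x)
      (Red.gmFn (t ≫ chr D (D.P.root b)) * y) * (t ≫ D.i) := by
  have ha := mul_inv_eq_iff_eq_mul.2 (isRootPts D a t x)
  have hb := mul_inv_eq_iff_eq_mul.2 (isRootPts D b t y)
  refine mul_inv_eq_iff_eq_mul.1 ?_
  rw [comm, comm, ← ha, ← hb]
  group

/-- A functional positive on both roots, vanishing on no root. -/
theorem exists_pos_functional [D.P.IsCrystallographic] {a b : D.idx} (h0 : D.P.root a + D.P.root b ≠ 0)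
    (hab : D.P.root a + D.P.root b ∉ Set.range D.P.root) :
    ∃ l : D.M →+ ℤ, 0 < l (D.P.root a) ∧ 0 < l (D.P.root b) ∧ ∀ c, l (D.P.root c) ≠ 0 := by
  obtain ⟨l0, hl0⟩ := exists_regular_functional D
  let l1 : D.M →ₗ[ℤ] ℤ := D.P.coroot' a + D.P.coroot' b
  have h1 : ∀ c, l1 (D.P.root c) = D.P.pairing c a + D.P.pairing c b := fun c => by
    simp [l1]
  have hne : D.P.root a ≠ -D.P.root b := fun h => h0 (by rw [h, neg_add_cancel])
  have hp : 0 ≤ D.P.pairing a b := pairingIn_int D.P a b ▸
    not_lt.1 fun h => hab (D.P.root_add_root_mem_of_pairingIn_neg h hne)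
  have hq : 0 ≤ D.P.pairing b a := pairingIn_int D.P b a ▸ not_lt.1 fun h =>
    hab (add_comm (D.P.root b) (D.P.root a) ▸ D.P.root_add_root_mem_of_pairingIn_neg h
      (fun h' => h0 (by rw [h', add_neg_cancel])))
  let N : ℤ := 1 + ∑ c, |l0 (D.P.root c)|
  have hN : ∀ c, |l0 (D.P.root c)| < N := fun c => by
    have := Finset.single_le_sum (fun c _ => abs_nonneg (l0 (D.P.root c))) (Finset.mem_univ c)
    simp only [N]
    omega
  have hN0 : 0 < N := lt_of_le_of_lt (abs_nonneg _) (hN a)
  refine ⟨(N • l1).toAddMonoidHom + l0, ?_, ?_, fun c => ?_⟩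
  all_goals simp only [AddMonoidHom.add_apply, LinearMap.toAddMonoidHom_coe, LinearMap.smul_apply, smul_eq_mul, h1,
    D.P.pairing_same]
  · nlinarith [neg_abs_le (l0 (D.P.root a)), hN a]
  · nlinarith [neg_abs_le (l0 (D.P.root b)), hN b]
  · intro h
    rcases eq_or_ne (D.P.pairing c a + D.P.pairing c b) 0 with h' | h'
    · rw [h', mul_zero, zero_add] at h
      exact hl0 c h
    · have h2 : N ≤ |N * (D.P.pairing c a + D.P.pairing c b)| := by
        rw [abs_mul, abs_of_pos hN0]
        exact le_mul_of_one_le_right hN0.le (Int.one_le_abs h')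
      rw [show N * (D.P.pairing c a + D.P.pairing c b) = -l0 (D.P.root c) by linarith, abs_neg] at h2
      linarith [hN c]

/-- A point contracted to `1` is a product of root elements of positive degree. -/
theorem exists_prod_of_isLimPt {l : D.M →+ ℤ} {n m : ℕ} {e : Fin n → D.idx} {e' : Fin m → D.idx}
    [IsOpenImmersion (RedSub.cellMap D e e').left] (he : ∀ k, l (D.P.root (e k)) < 0)
    (he' : ∀ k, 0 < l (D.P.root (e' k))) {X : Over S} {g : X ⟶ G} (hg : IsLimPt (gcochar D l) g 1) :
    ∃ z, z ≫ RedSub.prodMap (Red.Ga S) m (fun k => D.u (e' k)) = g := by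
  haveI := isAffineHom D
  have hsub : Set.range g.left ⊆ Set.range (RedSub.cellMap D e e').left := by
    rintro _ ⟨p, rfl⟩
    let Y := ptObj X p
    haveI : Subsingleton Y.left := inferInstanceAs (Subsingleton (PrimeSpectrum (X.left.residueField p)))
    have h1 := hg.comp (ptHom X p)
    rw [MonObj.comp_one] at h1
    obtain ⟨z, hz⟩ := mem_range_of_isLimPt (e := e) (e' := e') (isField_ptObj X p) h1
    let p₀ : Y.left := IsLocalRing.closedPoint (X.left.residueField p)
    have h2 : (ptHom X p).left p₀ ∈ Set.range (X.left.fromSpecResidueField p) := ⟨_, rfl⟩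
    rw [Scheme.range_fromSpecResidueField] at h2
    refine ⟨z.left p₀, ?_⟩
    rw [← Scheme.Hom.comp_apply, ← Over.comp_left, hz, Over.comp_left, Scheme.Hom.comp_apply]
    exact congrArg g.left h2
  obtain ⟨z, hz⟩ := exists_factor _ g hsub
  have h := factors_unique (c := gcochar D l) (y' := 1) (t' := 1) (x' := g) (isLimPt_neg he _) isLimPt_one
    (isLimPt_torus_pt (l := l) _) isLimPt_one (isLimPt_pos he' _) hg
    ((comp_cellMap e' z).symm.trans (hz.trans (by rw [_root_.one_mul, _root_.one_mul])))
  exact ⟨_, h.2.2⟩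

set_option maxHeartbeats 2000000 in
/-- Root groups whose sum of roots is neither zero nor a root commute, universally. -/
theorem comm_univ [D.P.IsCrystallographic] {a b : D.idx} (h0 : D.P.root a + D.P.root b ≠ 0)
    (hab : D.P.root a + D.P.root b ∉ Set.range D.P.root) (X : Over S) [IsAffine X.left] :
    comm a b (affX X (n := 2) 0) (affX X (n := 2) 1) = 1 := by
  classical
  haveI := isAffineHom D
  obtain ⟨l, hla, hlb, hl⟩ := exists_pos_functional h0 hab
  obtain ⟨n, m, e, e', he, he', -, hinj, ho⟩ := exists_cell hl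
  have hroot : ∀ (c : D.idx), 0 < l (D.P.root c) → ∀ (x : Γ((aff X 2).left, ⊤)),
      IsLimPt (gcochar D l) (P (D.u c) x) 1 := fun c hc x => by
    refine isLimPt_root (d := (l (D.P.root c)).toNat) (isRootPts D c) (by omega) ?_ x
    rw [Int.toNat_of_nonneg hc.le]
    exact hasDeg D l _
  have hlim : IsLimPt (gcochar D l) (comm a b (affX X (n := 2) 0) (affX X (n := 2) 1)) 1 := by
    have := (((hroot a hla (affX X 0)).mul (hroot b hlb (affX X 1))).mul (hroot a hla (affX X 0)).inv).mul
      (hroot b hlb (affX X 1)).inv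
    rwa [inv_one, _root_.one_mul, _root_.one_mul, _root_.one_mul] at this
  obtain ⟨z, hz⟩ := exists_prod_of_isLimPt he he' hlim
  rw [comp_prodMap] at hz
  let φA : Γ(X.left, ⊤) →+* MvPolynomial (Fin 2) Γ(X.left, ⊤) := MvPolynomial.C
  let F := fn X φA
  let f : Fin m → MvPolynomial (Fin 2) Γ(X.left, ⊤) := fun k => F.symm (Red.gaFn (z ≫ proj m k))
  have hw : comm a b (affX X (n := 2) 0) (affX X (n := 2) 1) = prodPts m fun k => P (D.u (e' k)) (F (f k)) := by
    rw [← hz]
    refine congrArg _ (funext fun k => ?_)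
    rw [← Category.assoc, P_eq, F.apply_symm_apply]
  haveI := mono_of_isClosedImmersion _ (mono_prodMap_pos hinj he')
  have huniq : ∀ {Y : Over S} (p q : Fin m → Γ(Y.left, ⊤)),
      prodPts m (fun k => P (D.u (e' k)) (p k)) = prodPts m (fun k => P (D.u (e' k)) (q k)) → p = q := by
    intro Y p q h
    have h1 : ∀ r : Fin m → Γ(Y.left, ⊤), tuple m (fun k => Ga.gaPt (r k)) ≫
        RedSub.prodMap (Red.Ga S) m (fun k => D.u (e' k)) = prodPts m fun k => P (D.u (e' k)) (r k) := fun r => by
      rw [comp_prodMap]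
      refine congrArg _ (funext fun k => ?_)
      rw [← Category.assoc, tuple_proj]
      rfl
    rw [← h1, ← h1, cancel_mono] at h
    funext k
    have h2 := congrArg (fun w => Red.gaFn (w ≫ proj m k)) h
    simpa only [tuple_proj, Ga.gaFn_gaPt] using h2
  -- specialisation of either variable to zero
  have hkill : ∀ (k0 : Fin 2) (k : Fin m),
      MvPolynomial.eval₂Hom MvPolynomial.C (Function.update MvPolynomial.X k0 0) (f k) = 0 := by
    intro k0 k
    obtain ⟨s, -, hs⟩ := exists_toExt φA (extHom X φA)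
      (F.toRingHom.comp (MvPolynomial.eval₂Hom MvPolynomial.C (Function.update MvPolynomial.X k0 0))) (by
        refine RingHom.ext fun r => ?_
        rw [RingHom.comp_apply, RingHom.comp_apply, MvPolynomial.eval₂Hom_C]
        exact (extHom_fn X φA r).symm)
    have h1 := congrArg (s ≫ ·) hw
    rw [comm_comp, comp_prodPts, hs, hs] at h1
    simp only [P_comp, hs, RingHom.comp_apply, MvPolynomial.eval₂Hom_X'] at h1
    have h2 : prodPts m (fun k => P (D.u (e' k)) (0 : Γ((aff X 2).left, ⊤))) = 1 :=
      prodPts_one fun k => P_zero _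
    have h3 := huniq _ _ ((h1.symm.trans (by fin_cases k0 <;> simp [comm_zero_left, comm_zero_right])).trans h2.symm)
    exact F.injective (((hs _).symm.trans (congrFun h3 k)).trans (map_zero F).symm)
  -- equivariance
  let φ' : Γ((aff X 2).left, ⊤) →+* AddMonoidAlgebra Γ((aff X 2).left, ⊤) D.M :=
    AddMonoidAlgebra.singleZeroRingHom
  let Y' := BigCell.ext (aff X 2) φ'
  let Q := fn (aff X 2) φ'
  let χ : Multiplicative D.M →* Γ(Y'.left, ⊤) :=
    Q.toRingHom.toMonoidHom.comp (AddMonoidAlgebra.of Γ((aff X 2).left, ⊤) D.M)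
  let t : Y' ⟶ D.T := Gm.dsPt χ ≫ D.split.inv.hom.hom
  have ht : ∀ c, Red.gmFn (t ≫ chr D (D.P.root c)) = Q (AddMonoidAlgebra.single (D.P.root c) 1) := fun c => by
    simp only [t, chr, Category.assoc]
    rw [← Category.assoc D.split.inv.hom.hom, split_inv_hom, Category.id_comp, Gm.gmFn_chi, Gm.dsFn_dsPt]
    rfl
  let v : Fin 2 → D.M := ![D.P.root a, D.P.root b]
  obtain ⟨ρ, -, hρ⟩ := exists_toExt φA (extHom (aff X 2) φ' ≫ extHom X φA)
    (Q.toRingHom.comp (grade F.toRingHom v)) (by
      refine RingHom.ext fun r => ?_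
      rw [Over.comp_left, Scheme.Hom.comp_appTop, CommRingCat.comp_apply, extHom_fn, extHom_fn,
        RingHom.comp_apply, RingHom.comp_apply, grade, MvPolynomial.eval₂Hom_C]
      rfl)
  have hvar : ∀ j : Fin 2, ρ.left.appTop (F (MvPolynomial.X j)) =
      Q (AddMonoidAlgebra.single (v j) 1) * (extHom (aff X 2) φ').left.appTop (F (MvPolynomial.X j)) := fun j => by
    rw [hρ, extHom_fn, ← map_mul]
    refine congrArg Q ((MvPolynomial.eval₂Hom_X' _ _ _).trans ?_)
    simp [φ', AddMonoidAlgebra.singleZeroRingHom, AddMonoidAlgebra.single_mul_single]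
  have hf : ∀ k, Q (AddMonoidAlgebra.single (D.P.root (e' k)) 1) * (extHom (aff X 2) φ').left.appTop (F (f k)) =
      ρ.left.appTop (F (f k)) := by
    have h1 := torus_comm_root a b t ((extHom (aff X 2) φ').left.appTop (affX X (n := 2) 0))
      ((extHom (aff X 2) φ').left.appTop (affX X (n := 2) 1))
    have h2 := congrArg (extHom (aff X 2) φ' ≫ ·) hw
    have h3 := congrArg (ρ ≫ ·) hw
    simp only [comm_comp, comp_prodPts, P_comp] at h2 h3
    rw [ht a, ht b, show Q (AddMonoidAlgebra.single (D.P.root a) 1) * (extHom (aff X 2) φ').left.appTop (affX X (n := 2) 0) = ρ.left.appTop (affX X (n := 2) 0) from (hvar 0).symm,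
      show Q (AddMonoidAlgebra.single (D.P.root b) 1) * (extHom (aff X 2) φ').left.appTop (affX X (n := 2) 1) = ρ.left.appTop (affX X (n := 2) 1) from (hvar 1).symm,
      h2, h3] at h1
    rw [mul_prodPts (t ≫ D.i) (b := fun k => P (D.u (e' k))
      (Red.gmFn (t ≫ chr D (D.P.root (e' k))) * (extHom (aff X 2) φ').left.appTop (F (f k))))
      (fun k => isRootPts D (e' k) t _)] at h1
    intro k
    have h4 := congrFun (huniq _ _ (mul_right_cancel h1)) k
    rwa [ht] at h4
  have hf0 : ∀ k, f k = 0 := fun k => by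
    have h1 := hf k
    rw [hρ, extHom_fn, ← map_mul] at h1
    have h2 := Q.injective h1
    rw [show φ' (F (f k)) = AddMonoidAlgebra.single 0 (F (f k)) from rfl, AddMonoidAlgebra.single_mul_single,
      add_zero, _root_.one_mul] at h2
    ext d
    rw [MvPolynomial.coeff_zero]
    by_contra hd
    by_cases hw : Finsupp.weight v d = D.P.root (e' k)
    · have hd0 : ∀ k0, d k0 ≠ 0 := fun k0 h => hd (by
        rw [← coeff_kill k0 (f k) h, hkill k0 k, MvPolynomial.coeff_zero])
      refine no_root D.P h0 hab (Nat.one_le_iff_ne_zero.2 (hd0 0)) (Nat.one_le_iff_ne_zero.2 (hd0 1)) (e' k) ?_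
      rw [← hw, Finsupp.weight_apply, Finsupp.sum_fintype _ _ (fun _ => zero_smul ℕ (v _)), Fin.sum_univ_two,
        natCast_zsmul, natCast_zsmul]
      rfl
    · have h3 := congrArg (fun p => p.coeff (Finsupp.weight v d)) h2
      simp only [AddMonoidAlgebra.coeff_single, coeff_grade, Finsupp.single_apply, if_neg (Ne.symm hw)] at h3
      have h4 := congrArg (MvPolynomial.coeff d) (F.injective (h3.symm.trans (map_zero F).symm))
      rw [MvPolynomial.coeff_weightedHomogeneousComponent, if_pos rfl, MvPolynomial.coeff_zero] at h4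
      exact hd h4
  rw [hw]
  have hgoal : ∀ k, P (D.u (e' k)) (F (f k)) = 1 := fun k => by rw [hf0, map_zero, P_zero]
  exact prodPts_one hgoal

end Groth.Agent.H82.Contract
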