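import Mathlib.Algebra.DualNumber
import Mathlib.Algebra.MvPolynomial.CommRing
import Mathlib.Algebra.Polynomial.Laurent
import Mathlib.RingTheory.MvPolynomial.WeightedHomogeneous
import Mathlib.RingTheory.SimpleModule.Basic

/-!
# Weighted algebra lemmas
-/

set_option autoImplicit false
universe u

namespace Groth.Agent.H82.Contract

variable {R A : Type u} [CommRing R] [CommRing A] {n : ℕ}

/-- Scaling of the coordinates with weights. -/
noncomputable def wScale (g : MvPolynomial (Fin n) R →+* A) (d : Fin n → ℕ) :
    MvPolynomial (Fin n) R →+* LaurentPolynomial A :=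
  MvPolynomial.eval₂Hom (LaurentPolynomial.C.comp (g.comp MvPolynomial.C))
    (fun k => LaurentPolynomial.T (d k : ℤ) * LaurentPolynomial.C (g (MvPolynomial.X k)))

theorem wScale_C (g : MvPolynomial (Fin n) R →+* A) (d : Fin n → ℕ) (r : R) :
    wScale g d (MvPolynomial.C r) = LaurentPolynomial.C (g (MvPolynomial.C r)) :=
  MvPolynomial.eval₂Hom_C _ _ _

theorem wScale_X (g : MvPolynomial (Fin n) R →+* A) (d : Fin n → ℕ) (k : Fin n) :
    wScale g d (MvPolynomial.X k) =
      LaurentPolynomial.T (d k : ℤ) * LaurentPolynomial.C (g (MvPolynomial.X k)) :=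
  MvPolynomial.eval₂Hom_X' _ _ _

theorem wScale_monomial (g : MvPolynomial (Fin n) R →+* A) (d : Fin n → ℕ) (e : Fin n →₀ ℕ) (r : R) :
    wScale g d (MvPolynomial.monomial e r) =
      LaurentPolynomial.T ((Finsupp.weight d e : ℕ) : ℤ) * LaurentPolynomial.C (g (MvPolynomial.monomial e r)) := by
  induction e using Finsupp.induction with
  | zero =>
    rw [map_zero, Nat.cast_zero, LaurentPolynomial.T_zero, one_mul, MvPolynomial.monomial_zero', wScale_C]
  | single_add i k e hi hk ih =>
    rw [MvPolynomial.monomial_single_add, map_mul, map_pow, ih, wScale_X, mul_pow, map_mul g, map_pow g,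
      map_mul LaurentPolynomial.C, map_pow LaurentPolynomial.C, LaurentPolynomial.T_pow, map_add,
      Finsupp.weight_single, smul_eq_mul, Nat.cast_add, Nat.cast_mul, LaurentPolynomial.T_add]
    ring

theorem coeff_wScale (g : MvPolynomial (Fin n) R →+* A) (d : Fin n → ℕ) (j : ℕ) (p : MvPolynomial (Fin n) R) :
    (wScale g d p).coeff (j : ℤ) = g (MvPolynomial.weightedHomogeneousComponent d j p) := by
  induction p using MvPolynomial.induction_on' with
  | monomial e r =>
    rw [wScale_monomial, mul_comm, ← LaurentPolynomial.single_eq_C_mul_T, AddMonoidAlgebra.coeff_single,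
      Finsupp.single_apply]
    by_cases h : Finsupp.weight d e = j
    · rw [if_pos (by exact_mod_cast h), MvPolynomial.weightedHomogeneousComponent_of_mem
        (MvPolynomial.isWeightedHomogeneous_monomial d e r h), if_pos rfl]
    · rw [if_neg (by exact_mod_cast h), MvPolynomial.weightedHomogeneousComponent_of_mem
        (MvPolynomial.isWeightedHomogeneous_monomial d e r rfl), if_neg (Ne.symm h), map_zero]
  | add p q hp hq => rw [map_add, AddMonoidAlgebra.coeff_add, Finsupp.add_apply, hp, hq, map_add, map_add]

theorem eval_eps {K : Type u} [CommRing K] (f : R →+* K) (x : Fin n → K) (p : MvPolynomial (Fin n) R) :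
    (MvPolynomial.eval₂Hom ((TrivSqZeroExt.inlHom K K).comp f) (fun k => TrivSqZeroExt.inr (x k)) p).snd =
      ∑ k, f (p.coeff (Finsupp.single k 1)) * x k := by
  induction p using MvPolynomial.induction_on with
  | C r => simp [MvPolynomial.coeff_C, eq_comm (a := (0 : Fin n →₀ ℕ))]
  | add p q hp hq =>
    simp only [map_add, TrivSqZeroExt.snd_add, hp, hq, MvPolynomial.coeff_add, add_mul, Finset.sum_add_distrib]
  | mul_X p i hp =>
    have h0 : (MvPolynomial.eval₂Hom ((TrivSqZeroExt.inlHom K K).comp f)
        (fun k => TrivSqZeroExt.inr (x k)) p).fst = f (p.coeff 0) := by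
      have e : (TrivSqZeroExt.fstHom K K K).toRingHom.comp (MvPolynomial.eval₂Hom ((TrivSqZeroExt.inlHom K K).comp f)
          (fun k => TrivSqZeroExt.inr (x k))) = f.comp MvPolynomial.constantCoeff :=
        MvPolynomial.ringHom_ext (fun r => by simp) (fun k => by simp)
      exact RingHom.congr_fun e p
    rw [map_mul, MvPolynomial.eval₂Hom_X', TrivSqZeroExt.snd_mul, TrivSqZeroExt.fst_inr,
      TrivSqZeroExt.snd_inr, h0]
    rw [Finset.sum_eq_single i]
    · simp [MvPolynomial.coeff_mul_X']
    · intro k _ hk
      simp [MvPolynomial.coeff_mul_X', Finsupp.single_apply, hk, Ne.symm hk]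
    · simp

/-- A subalgebra of weighted polynomials stable under components with all linear parts is everything. -/
theorem subalgebra_eq_top (d : Fin n → ℕ) (hpos : ∀ k, 0 < d k) (B : Subalgebra R (MvPolynomial (Fin n) R))
    (hcomp : ∀ j, ∀ p ∈ B, MvPolynomial.weightedHomogeneousComponent d j p ∈ B)
    (hlin : ∀ k, ∃ p ∈ B, ∀ l, p.coeff (Finsupp.single l 1) = if l = k then 1 else 0) : B = ⊤ := by
  have hX : ∀ N k, d k < N → MvPolynomial.X k ∈ B := by
    intro N
    induction N with
    | zero => exact fun k h => absurd h (Nat.not_lt_zero _)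
    | succ N ih =>
      intro k hk
      obtain ⟨p, hp, hpk⟩ := hlin k
      let p' := MvPolynomial.weightedHomogeneousComponent d (d k) p
      have hrest : p' - MvPolynomial.X k ∈ B := by
        rw [MvPolynomial.as_sum (p' - MvPolynomial.X k)]
        refine B.sum_mem fun e he => ?_
        have he' := MvPolynomial.mem_support_iff.1 he
        simp only [p'] at he'
        rw [sub_eq_add_neg, MvPolynomial.coeff_add, MvPolynomial.coeff_neg, MvPolynomial.coeff_weightedHomogeneousComponent, MvPolynomial.coeff_X, ← sub_eq_add_neg] at he'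
        have hw : Finsupp.weight d e = d k := by
          by_contra h
          rw [if_neg h, if_neg (by rintro rfl; exact h (by rw [Finsupp.weight_single, smul_eq_mul, one_mul])), sub_zero] at he'
          exact he' rfl
        rw [MvPolynomial.monomial_eq]
        refine B.mul_mem (B.algebraMap_mem _) (B.prod_mem fun l hl => B.pow_mem (ih l ?_) _)
        have hl' : 1 ≤ e l := Nat.one_le_iff_ne_zero.2 (Finsupp.mem_support_iff.1 hl)
        obtain ⟨e', rfl⟩ : ∃ e', e = Finsupp.single l 1 + e' :=
          ⟨e - Finsupp.single l 1, (add_tsub_cancel_of_le (Finsupp.single_le_iff.2 hl')).symm⟩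
        rw [map_add, Finsupp.weight_single, smul_eq_mul, one_mul] at hw
        rcases eq_or_ne e' 0 with rfl | h0
        · exfalso
          apply he'
          rw [add_zero, Finsupp.weight_single, smul_eq_mul, one_mul]
          rw [map_zero, add_zero] at hw
          rw [if_pos hw, hpk]
          simp [Finsupp.single_left_inj one_ne_zero, eq_comm]
        · obtain ⟨l', hl''⟩ := Finsupp.support_nonempty_iff.2 h0
          have h1 : 1 ≤ e' l' := Nat.one_le_iff_ne_zero.2 (Finsupp.mem_support_iff.1 hl'')
          have h2 : 0 < Finsupp.weight d e' := by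
            rw [← add_tsub_cancel_of_le (Finsupp.single_le_iff.2 h1), map_add, Finsupp.weight_single, smul_eq_mul,
              one_mul]
            exact lt_of_lt_of_le (hpos l') (Nat.le_add_right _ _)
          omega
      have := B.sub_mem (hcomp (d k) p hp) hrest
      rwa [sub_sub_cancel] at this
  refine eq_top_iff.2 fun p _ => ?_
  induction p using MvPolynomial.induction_on with
  | C r => exact B.algebraMap_mem r
  | add p q hp hq => exact B.add_mem (hp trivial) (hq trivial)
  | mul_X p k hp => exact B.mul_mem (hp trivial) (hX _ k (Nat.lt_succ_self _))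

/-- A proper submodule of a free module is killed by a functional to a residue field. -/
theorem exists_functional (N : Submodule R (Fin n → R)) (hN : N ≠ ⊤) :
    ∃ (m : Ideal R) (φ : (Fin n → R) →ₗ[R] R ⧸ m), m.IsMaximal ∧ φ ≠ 0 ∧ ∀ x ∈ N, φ x = 0 := by
  obtain ⟨W, hW, hNW⟩ := (eq_top_or_exists_le_coatom N).resolve_left hN
  haveI : IsSimpleModule R ((Fin n → R) ⧸ W) := isSimpleModule_iff_isCoatom.2 hW
  obtain ⟨m, hm, ⟨e⟩⟩ := isSimpleModule_iff_quot_maximal.1 (inferInstance : IsSimpleModule R ((Fin n → R) ⧸ W))
  refine ⟨m, e.toLinearMap.comp W.mkQ, hm, fun h => hW.1 (eq_top_iff.2 fun x _ => ?_), fun x hx => ?_⟩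
  · exact (Submodule.Quotient.mk_eq_zero W).1 (e.injective ((LinearMap.congr_fun h x).trans e.map_zero.symm))
  · exact (congrArg e ((Submodule.Quotient.mk_eq_zero W).2 (hNW hx))).trans e.map_zero

end Groth.Agent.H82.Contract
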