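import Groth.Agent.H82.Contract.Range
import Groth.Agent.Lib.ActSep.Exists

/-!
# Centralizers of regular cocharacters
-/

set_option autoImplicit false
set_option linter.style.haveILetI false
set_option linter.unusedSectionVars false
universe u

open CategoryTheory MonoidalCategory CartesianMonoidalCategory MonObj GrpObj AlgebraicGeometry
open Groth.Agent.Lib.RedPts Groth.Agent.H82.BigCell

namespace Groth.Agent.H82.Contract

variable {S : Scheme.{u}} {G : Over S} [GrpObj G] {D : Red.SplitRed G}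

theorem isConnected_fibre (D : Red.SplitRed G) (s : S) : _root_.IsConnected (G.hom ⁻¹' {s}) := by
  haveI : ConnectedSpace ↥(Limits.pullback G.hom (Red.geomPt s)) := (D.reductive.2.2 s).2.2.1
  have h1 : Set.range (Limits.pullback.fst G.hom (Red.geomPt s)) = G.hom ⁻¹' {s} := by
    rw [Scheme.Pullback.range_fst]
    congr 1
    refine Set.eq_singleton_iff_unique_mem.2 ⟨⟨IsLocalRing.closedPoint _, ?_⟩, ?_⟩
    · exact Scheme.fromSpecResidueField_apply s _
    · rintro _ ⟨z, rfl⟩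
      exact Scheme.fromSpecResidueField_apply s _
  rw [← h1]
  exact isConnected_range (Scheme.Hom.continuous _)

/-- The point commutes with the cocharacter. -/
def Commutes (c : Red.Gm S ⟶ G) {X : Over S} (g : X ⟶ G) : Prop :=
  ∀ (Y : Over S) (f : Y ⟶ X) (z : Y ⟶ Red.Gm S), (z ≫ c) * (f ≫ g) = (f ≫ g) * (z ≫ c)

variable {l : D.M →+ ℤ} {n m : ℕ} {e : Fin n → D.idx} {e' : Fin m → D.idx}

theorem Commutes.comp {c : Red.Gm S ⟶ G} {X X' : Over S} {g : X ⟶ G} (h : Commutes c g) (f : X' ⟶ X) :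
    Commutes c (f ≫ g) := fun Y f' z => by
  rw [← Category.assoc]
  exact h Y (f' ≫ f) z

theorem Commutes.isLimPt_inv {c : Red.Gm S ⟶ G} [IsMonHom c] {X : Over S} {g : X ⟶ G} (h : Commutes c g) :
    IsLimPt c⁻¹ g g :=
  isLimPt_of_commute g fun Y f z => by
    rw [GrpObj.comp_inv]
    exact ((show Commute (z ≫ c) (f ≫ g) from h Y f z).inv_left).eq

/-- A point of the cell commuting with the cocharacter is a point of the torus. -/
theorem eq_torus_of_cell (he : ∀ k, l (D.P.root (e k)) < 0) (he' : ∀ k, 0 < l (D.P.root (e' k)))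
    {X : Over S} (z : X ⟶ RedSub.pow (Red.Ga S) n ⊗ (D.T ⊗ RedSub.pow (Red.Ga S) m))
    (hg : Commutes (gcochar D l) (z ≫ RedSub.cellMap D e e')) :
    (z ≫ snd _ _ ≫ fst _ _) ≫ D.i = z ≫ RedSub.cellMap D e e' := by
  haveI := isAffineHom D
  have h1 := factors_unique (c := gcochar D l) (y' := 1) (t' := z ≫ RedSub.cellMap D e e') (x' := 1)
    (isLimPt_neg he _) isLimPt_one (isLimPt_torus_pt (l := l) _) (isLimPt_of_commute _ hg)
    (isLimPt_pos he' _) isLimPt_one
    ((comp_cellMap e' z).symm.trans (by rw [_root_.one_mul, _root_.mul_one]))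
  exact h1.2.1

/-- A point commuting with the cocharacter and moving a cell point into the cell is a torus point. -/
theorem exists_torus_of_cell_cell (he : ∀ k, l (D.P.root (e k)) < 0) (he' : ∀ k, 0 < l (D.P.root (e' k)))
    {X : Over S} {g : X ⟶ G} (hg : Commutes (gcochar D l) g)
    (z z' : X ⟶ RedSub.pow (Red.Ga S) n ⊗ (D.T ⊗ RedSub.pow (Red.Ga S) m))
    (h : g * (z ≫ RedSub.cellMap D e e') = z' ≫ RedSub.cellMap D e e') : ∃ t, t ≫ D.i = g := by
  haveI := isAffineHom D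
  have h' := (congrArg (g * ·) (comp_cellMap e' z)).symm.trans (h.trans (comp_cellMap e' z'))
  have hy := isLimPt_neg he (z ≫ fst _ _)
  have hy' := isLimPt_neg he (z' ≫ fst _ _)
  have hx := isLimPt_pos he' (z ≫ snd _ _ ≫ snd _ _)
  have hx' := isLimPt_pos he' (z' ≫ snd _ _ ≫ snd _ _)
  set y := (z ≫ fst _ _) ≫ RedSub.prodMap (Red.Ga S) n fun k => D.u (e k)
  set y' := (z' ≫ fst _ _) ≫ RedSub.prodMap (Red.Ga S) n fun k => D.u (e k)
  set t := (z ≫ snd _ _ ≫ fst _ _)
  set t' := (z' ≫ snd _ _ ≫ fst _ _)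
  set x := (z ≫ snd _ _ ≫ snd _ _) ≫ RedSub.prodMap (Red.Ga S) m fun k => D.u (e' k)
  set x' := (z' ≫ snd _ _ ≫ snd _ _) ≫ RedSub.prodMap (Red.Ga S) m fun k => D.u (e' k)
  have hc : ∀ τ : X ⟶ D.T, IsLimPt (gcochar D l)⁻¹ (τ ≫ D.i) (τ ≫ D.i) := fun τ =>
    Commutes.isLimPt_inv fun Y f w => by
      rw [← Category.assoc w, ← Category.assoc f, ← MonObj.mul_comp, ← MonObj.mul_comp, torus_comm D]
  have hv : x * x'⁻¹ = (t ≫ D.i)⁻¹ * y⁻¹ * g⁻¹ * y' * (t' ≫ D.i) := by
    rw [mul_inv_eq_iff_eq_mul]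
    simp only [_root_.mul_assoc, eq_inv_mul_iff_mul_eq]
    exact h'
  have h1 : IsLimPt (gcochar D l) (x * x'⁻¹) 1 := by
    have := hx.mul hx'.inv
    rwa [inv_one, _root_.mul_one] at this
  have h2 : IsLimPt (gcochar D l)⁻¹ (x * x'⁻¹) ((t ≫ D.i)⁻¹ * g⁻¹ * (t' ≫ D.i)) := by
    rw [hv]
    have := (((hc t).inv.mul hy.inv).mul hg.isLimPt_inv.inv).mul hy' |>.mul (hc t')
    rwa [inv_one, _root_.mul_one, _root_.mul_one] at this
  obtain ⟨a, b⟩ := h1.eq_of_both h2
  rw [b] at a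
  refine ⟨t' * t⁻¹, ?_⟩
  have a' : g⁻¹ = (t ≫ D.i) * (t' ≫ D.i)⁻¹ := by
    calc g⁻¹ = (t ≫ D.i) * ((t ≫ D.i)⁻¹ * g⁻¹ * (t' ≫ D.i)) * (t' ≫ D.i)⁻¹ := by group
      _ = _ := by rw [a, _root_.mul_one]
  rw [MonObj.mul_comp, GrpObj.inv_comp, ← _root_.inv_inj, a']
  group

/-- The image of the torus lies in the cell. -/
theorem range_torus_subset {X : Over S} (t : X ⟶ D.T) :
    Set.range (t ≫ D.i).left ⊆ Set.range (RedSub.cellMap D e e').left := by
  obtain ⟨z, hz⟩ := exists_one (D := D) (e := e) (e' := e') X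
  rintro _ ⟨p, rfl⟩
  refine ⟨(lift (tuple n fun _ => Ga.gaPt 0) (lift t (tuple m fun _ => Ga.gaPt 0))).left p, ?_⟩
  rw [← Scheme.Hom.comp_apply, ← Over.comp_left]
  refine congrArg (fun f => f.left p) ((comp_cellMap e' _).trans ?_)
  rw [lift_fst, lift_snd_assoc, lift_fst, lift_snd_assoc, lift_snd]
  have h1 : ∀ {k : ℕ} (d : Fin k → D.idx),
      tuple k (fun _ => Ga.gaPt (0 : Γ(X.left, ⊤))) ≫ RedSub.prodMap (Red.Ga S) k (fun j => D.u (d j)) = 1 := by
    intro k d
    rw [comp_prodMap]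
    induction k with
    | zero => rfl
    | succ k ih =>
      rw [prodPts_succ, ← Category.assoc, tuple_proj]
      refine (congrArg₂ (· * ·) (RankOne.P_zero (D.u (d 0)) (X := X)) ?_).trans (_root_.one_mul _)
      refine Eq.trans ?_ (ih (fun j => d j.succ))
      refine congrArg _ (funext fun j => ?_)
      rw [← Category.assoc, ← Category.assoc, tuple_proj, tuple_proj]
  rw [h1, h1, _root_.one_mul, _root_.mul_one]

/-- The centralizer of a regular cocharacter is the torus. -/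
theorem exists_torus [IsOpenImmersion (RedSub.cellMap D e e').left]
    (he : ∀ k, l (D.P.root (e k)) < 0) (he' : ∀ k, 0 < l (D.P.root (e' k)))
    {X : Over S} {g : X ⟶ G} (hg : Commutes (gcochar D l) g) : ∃ t : X ⟶ D.T, t ≫ D.i = g := by
  haveI := D.reductive.2.1
  have hsub : Set.range g.left ⊆ Set.range (RedSub.cellMap D e e').left := by
    rintro _ ⟨p, rfl⟩
    let Y := ptObj X p
    let gp : Y ⟶ G := ptHom X p ≫ g
    haveI : IrreducibleSpace (G ⊗ Y).left := Groth.Agent.Lib.ActSep.irreducibleSpace_geomFibre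
      (isConnected_fibre D) (X.left.fromSpecResidueField p ≫ X.hom)
    let V := (RedSub.cellMap D e e').left.opensRange
    let b : (G ⊗ Y : Over S) ⟶ G := (snd G Y ≫ gp) * fst G Y
    let y₀ : Y.left := IsLocalRing.closedPoint (X.left.residueField p)
    have h1 : ∀ (a : Y ⟶ G), a = 1 → a.left y₀ ∈ V := by
      rintro a rfl
      have := range_torus_subset (D := D) (e := e) (e' := e') (1 : Y ⟶ D.T)
      rw [MonObj.one_comp] at this
      exact this ⟨y₀, rfl⟩
    have hE : ((fst G Y).left ⁻¹ᵁ V : Set (G ⊗ Y).left).Nonempty := by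
      refine ⟨(lift (1 : Y ⟶ G) (𝟙 Y)).left y₀, ?_⟩
      change (fst G Y).left ((lift (1 : Y ⟶ G) (𝟙 Y)).left y₀) ∈ V
      rw [← Scheme.Hom.comp_apply, ← Over.comp_left]
      exact h1 _ (lift_fst _ _)
    have hE' : (b.left ⁻¹ᵁ V : Set (G ⊗ Y).left).Nonempty := by
      refine ⟨(lift gp⁻¹ (𝟙 Y)).left y₀, ?_⟩
      change b.left ((lift gp⁻¹ (𝟙 Y)).left y₀) ∈ V
      rw [← Scheme.Hom.comp_apply, ← Over.comp_left]
      refine h1 _ ?_
      rw [MonObj.comp_mul, lift_fst, lift_snd_assoc, Category.id_comp, mul_inv_cancel]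
    obtain ⟨q, hq1, hq2⟩ := nonempty_preirreducible_inter ((fst G Y).left ⁻¹ᵁ V).2 (b.left ⁻¹ᵁ V).2 hE hE'
    let r := ptHom (G ⊗ Y) q
    let q₀ : (ptObj (G ⊗ Y) q).left := IsLocalRing.closedPoint ((G ⊗ Y).left.residueField q)
    have hr : ∀ a, r.left a = q := fun a => by
      have h2 : r.left a ∈ Set.range ((G ⊗ Y).left.fromSpecResidueField q) := ⟨a, rfl⟩
      rwa [Scheme.range_fromSpecResidueField] at h2
    have hf : ∀ a : (G ⊗ Y : Over S) ⟶ G, a.left q ∈ V →
        ∃ z, z ≫ RedSub.cellMap D e e' = r ≫ a := fun a ha => by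
      refine exists_factor _ _ ?_
      rintro _ ⟨c, rfl⟩
      rw [Over.comp_left, Scheme.Hom.comp_apply, hr c]
      exact ha
    obtain ⟨z, hz⟩ := hf _ hq1
    obtain ⟨z', hz'⟩ := hf b hq2
    obtain ⟨t, ht⟩ := exists_torus_of_cell_cell he he' ((hg.comp (ptHom X p)).comp (r ≫ snd G Y)) z z' (by
      rw [hz, hz', MonObj.comp_mul, Category.assoc])
    have h3 := range_torus_subset (D := D) (e := e) (e' := e') t
    rw [ht] at h3
    have h4 : ((r ≫ snd G Y) ≫ ptHom X p ≫ g).left q₀ = g.left p := by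
      rw [Over.comp_left, Over.comp_left, Scheme.Hom.comp_apply, Scheme.Hom.comp_apply]
      refine congrArg g.left ?_
      have h2 : (ptHom X p).left ((r ≫ snd G Y).left q₀) ∈ Set.range (X.left.fromSpecResidueField p) := ⟨_, rfl⟩
      rwa [Scheme.range_fromSpecResidueField] at h2
    exact h4 ▸ h3 ⟨q₀, rfl⟩
  obtain ⟨z, hz⟩ := exists_factor _ g hsub
  exact ⟨_, (eq_torus_of_cell he he' z (hz ▸ hg)).trans hz⟩

/-- Points commuting with a regular cocharacter, for a base of the roots. -/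
theorem exists_torus_of_commute (b : D.P.Base)
    (hl : ∀ a ∈ RedSub.posRoots D.P b, 0 < l (D.P.root a)) (hl' : ∀ a ∈ RedSub.negRoots D.P b, l (D.P.root a) < 0)
    {X : Over S} {g : X ⟶ G} (hg : Commutes (gcochar D l) g) : ∃ t : X ⟶ D.T, t ≫ D.i = g := by
  classical
  let A := {a : D.idx // l (D.P.root a) < 0}
  let B := {a : D.idx // 0 < l (D.P.root a)}
  let e := fun k => ((Fintype.equivFin A).symm k).1
  let e' := fun k => ((Fintype.equivFin B).symm k).1
  have hcard : Fintype.card A + Fintype.card B = Fintype.card D.idx := by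
    rw [← Fintype.card_sum]
    refine Fintype.card_of_bijective (f := Sum.elim Subtype.val Subtype.val)
      ⟨Subtype.val_injective.sumElim Subtype.val_injective fun a c h => ?_, fun a => ?_⟩
    · have h1 := a.2
      rw [h] at h1
      exact absurd c.2 (not_lt.2 h1.le)
    · rcases b.root_mem_or_neg_mem a with h | h
      · exact ⟨Sum.inr ⟨a, hl a h⟩, rfl⟩
      · exact ⟨Sum.inl ⟨a, hl' a h⟩, rfl⟩
  haveI := isOpenImmersion_cellMap (e := e) (e' := e') (l := l)
    (Subtype.val_injective.comp (Equiv.injective _)) (Subtype.val_injective.comp (Equiv.injective _))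
    (fun k => ((Fintype.equivFin A).symm k).2) (fun k => ((Fintype.equivFin B).symm k).2) hcard
  exact exists_torus (e := e) (e' := e') (fun k => ((Fintype.equivFin A).symm k).2)
    (fun k => ((Fintype.equivFin B).symm k).2) hg

end Groth.Agent.H82.Contract
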