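import Groth.Agent.H82.BigCell.Tools

/-!
# Points over small affine test objects

A test object is small when it maps into an affine open of the base.
-/

set_option autoImplicit false
universe u

open CategoryTheory MonoidalCategory CartesianMonoidalCategory MonObj GrpObj AlgebraicGeometry
open Groth.Agent.Lib.RedPts Groth.Agent.H82.BigCell

namespace Groth.Agent.H82.Contract

variable {S : Scheme.{u}}

/-- The test object lies over an affine open of the base. -/
def Small (Y : Over S) : Prop := ∃ U : S.Opens, IsAffineOpen U ∧ Set.range Y.hom ⊆ (U : Set S)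

theorem Small.of_hom {Y Y' : Over S} (c : Y' ⟶ Y) (h : Small Y) : Small Y' := by
  obtain ⟨U, hU, hY⟩ := h
  refine ⟨U, hU, ?_⟩
  rintro _ ⟨p, rfl⟩
  rw [← Over.w c, Scheme.Hom.comp_apply]
  exact hY ⟨_, rfl⟩

/-- Equality of morphisms can be tested on small affine test objects. -/
theorem pt_ext_small {X G : Over S} {g h : X ⟶ G}
    (e : ∀ (Y : Over S) (f : Y ⟶ X), IsAffine Y.left → Small Y → f ≫ g = f ≫ h) : g = h := by
  have H : ∀ p : X.left, ∃ W : X.left.Opens, IsAffineOpen W ∧ p ∈ W ∧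
      ∃ U : S.Opens, IsAffineOpen U ∧ Set.range (W.ι ≫ X.hom) ⊆ (U : Set S) := fun p => by
    obtain ⟨_, ⟨U, hU, rfl⟩, hpU, -⟩ :=
      S.isBasis_affineOpens.exists_subset_of_mem_open (Set.mem_univ (X.hom p)) isOpen_univ
    obtain ⟨_, ⟨W, hW, rfl⟩, hpW, hsub⟩ :=
      X.left.isBasis_affineOpens.exists_subset_of_mem_open
        (show p ∈ ((X.hom ⁻¹ᵁ U : X.left.Opens) : Set X.left) from hpU) (X.hom ⁻¹ᵁ U).2
    refine ⟨W, hW, hpW, U, hU, ?_⟩
    rintro _ ⟨q, rfl⟩
    exact hsub q.2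
  choose W hW hp U hU hWU using H
  let 𝒰 : X.left.OpenCover := X.left.openCoverOfIsOpenCover W
    (TopologicalSpace.IsOpenCover.mk (top_unique fun p _ => TopologicalSpace.Opens.mem_iSup.2 ⟨p, hp p⟩))
  refine Over.OverMorphism.ext (𝒰.hom_ext _ _ fun p => ?_)
  exact congrArg Over.Hom.left (e (Over.mk ((W p).ι ≫ X.hom)) (Over.homMk (W p).ι rfl) (hW p)
    ⟨U p, hU p, hWU p⟩)

theorem fn_ext_small {X : Over S} {a b : Γ(X.left, ⊤)}
    (h : ∀ (Y : Over S) (f : Y ⟶ X), IsAffine Y.left → Small Y → f.left.appTop a = f.left.appTop b) : a = b := by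
  have : Ga.gaPt (X := X) a = Ga.gaPt b := pt_ext_small fun Y f hY hs => Ga.gaFn_injective (by
    rw [Ga.gaFn_comp, Ga.gaFn_comp, Ga.gaFn_gaPt, Ga.gaFn_gaPt]; exact h Y f hY hs)
  rw [← Ga.gaFn_gaPt a, ← Ga.gaFn_gaPt b, this]

/-! ### Coordinates over an affine open of the base -/

variable (G : Over S) [IsAffineHom G.hom] (U : S.Opens)

/-- The part of `G` over `U`, as an object over the base. -/
noncomputable abbrev chart : Over S := Over.mk ((G.hom ⁻¹ᵁ U).ι ≫ G.hom)

/-- Its inclusion. -/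
noncomputable abbrev chartHom : chart G U ⟶ G := Over.homMk (G.hom ⁻¹ᵁ U).ι rfl

theorem isAffine_chart {U : S.Opens} (hU : IsAffineOpen U) : IsAffine (chart G U).left :=
  hU.preimage G.hom

theorem small_chart {U : S.Opens} (hU : IsAffineOpen U) : Small (chart G U) := by
  refine ⟨U, hU, ?_⟩
  rintro _ ⟨q, rfl⟩
  exact q.2

variable {G U}

/-- The lift of a point to the chart. -/
noncomputable def chartLift {Y : Over S} (hY : Set.range Y.hom ⊆ (U : Set S)) (g : Y ⟶ G) : Y ⟶ chart G U :=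
  Over.homMk (IsOpenImmersion.lift (G.hom ⁻¹ᵁ U).ι g.left (by
    rw [Scheme.Opens.range_ι]
    rintro _ ⟨p, rfl⟩
    change G.hom (g.left p) ∈ (U : Set S)
    rw [← Scheme.Hom.comp_apply, Over.w g]
    exact hY ⟨p, rfl⟩)) (by
    change _ ≫ (G.hom ⁻¹ᵁ U).ι ≫ G.hom = _
    rw [IsOpenImmersion.lift_fac_assoc, Over.w g])

@[reassoc (attr := simp)]
theorem chartLift_fac {Y : Over S} (hY : Set.range Y.hom ⊆ (U : Set S)) (g : Y ⟶ G) :
    chartLift hY g ≫ chartHom G U = g :=
  Over.OverMorphism.ext (IsOpenImmersion.lift_fac _ _ _)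

theorem chartLift_comp {Y Y' : Over S} (c : Y' ⟶ Y) (hY : Set.range Y.hom ⊆ (U : Set S))
    (hY' : Set.range Y'.hom ⊆ (U : Set S)) (g : Y ⟶ G) :
    c ≫ chartLift hY g = chartLift hY' (c ≫ g) :=
  Over.OverMorphism.ext ((cancel_mono (G.hom ⁻¹ᵁ U).ι).1 (by
    change ((c ≫ chartLift hY g) ≫ chartHom G U).left = (chartLift hY' (c ≫ g) ≫ chartHom G U).left
    rw [Category.assoc, chartLift_fac, chartLift_fac]))

/-- The value of a coordinate at a point over `U`. -/
noncomputable def cd {Y : Over S} (hY : Set.range Y.hom ⊆ (U : Set S)) (g : Y ⟶ G) :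
    Γ((chart G U).left, ⊤) →+* Γ(Y.left, ⊤) :=
  (chartLift hY g).left.appTop.hom

theorem cd_comp {Y Y' : Over S} (c : Y' ⟶ Y) (hY : Set.range Y.hom ⊆ (U : Set S))
    (hY' : Set.range Y'.hom ⊆ (U : Set S)) (g : Y ⟶ G) (b : Γ((chart G U).left, ⊤)) :
    cd hY' (c ≫ g) b = c.left.appTop (cd hY g b) := by
  rw [cd, ← chartLift_comp c hY hY' g, Over.comp_left, Scheme.Hom.comp_appTop]
  rfl

theorem range_of_hom {Y Y' : Over S} (c : Y' ⟶ Y) (hY : Set.range Y.hom ⊆ (U : Set S)) :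
    Set.range Y'.hom ⊆ (U : Set S) := by
  rintro _ ⟨p, rfl⟩
  rw [← Over.w c, Scheme.Hom.comp_apply]
  exact hY ⟨_, rfl⟩

/-- Points over `U` are determined by their coordinates. -/
theorem ext_cd (hU : IsAffineOpen U) {Y : Over S} {hY : Set.range Y.hom ⊆ (U : Set S)} {g h : Y ⟶ G}
    (e : ∀ b, cd hY g b = cd hY h b) : g = h := by
  haveI := isAffine_chart G hU
  have : chartLift hY g = chartLift hY h :=
    Over.OverMorphism.ext (ext_of_isAffine (CommRingCat.hom_ext (RingHom.ext e)))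
  rw [← chartLift_fac hY g, this, chartLift_fac]

/-- A test morphism injective on functions detects equality of points. -/
theorem eq_of_injective {Y Y' : Over S} (c : Y' ⟶ Y) (hc : Function.Injective c.left.appTop)
    (hs : Small Y) {g h : Y ⟶ G} (e : c ≫ g = c ≫ h) : g = h := by
  obtain ⟨U, hU, hY⟩ := hs
  refine ext_cd hU (hY := hY) fun b => hc ?_
  rw [← cd_comp c hY (range_of_hom c hY), ← cd_comp c hY (range_of_hom c hY), e]

/-! ### Coordinates of points of an affine extension -/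

section extPoints

variable {X Y : Over S} [IsAffine Y.left] {R : Type u} [CommRing R] (φ : Γ(Y.left, ⊤) →+* R)

/-- A morphism to an affine extension is determined by its effect on functions. -/
theorem hom_ext_fn {f g : X ⟶ ext Y φ}
    (e : ∀ r, f.left.appTop (fn Y φ r) = g.left.appTop (fn Y φ r)) : f = g := by
  refine Over.OverMorphism.ext (ext_of_isAffine ?_)
  ext r
  obtain ⟨x, rfl⟩ := (fn Y φ).surjective r
  exact e x

/-- The value of a coordinate at a point of an extension, in the ring of the extension. -/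
noncomputable def cdv (hY : Set.range Y.hom ⊆ (U : Set S)) (a : ext Y φ ⟶ G) :
    Γ((chart G U).left, ⊤) →+* R :=
  (fn Y φ).symm.toRingHom.comp (cd (range_of_hom (extHom Y φ) hY) a)

theorem fn_cdv (hY : Set.range Y.hom ⊆ (U : Set S)) (a : ext Y φ ⟶ G) (b : Γ((chart G U).left, ⊤)) :
    fn Y φ (cdv φ hY a b) = cd (range_of_hom (extHom Y φ) hY) a b :=
  (fn Y φ).apply_symm_apply _

theorem cd_comp_ext {Y' : Over S} (hY : Set.range Y.hom ⊆ (U : Set S))
    (hY' : Set.range Y'.hom ⊆ (U : Set S)) (d : Y' ⟶ ext Y φ) (a : ext Y φ ⟶ G)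
    (b : Γ((chart G U).left, ⊤)) : cd hY' (d ≫ a) b = d.left.appTop (fn Y φ (cdv φ hY a b)) := by
  rw [fn_cdv]
  exact cd_comp d (range_of_hom (extHom Y φ) hY) hY' a b

theorem cdv_extMap {Y' : Over S} [IsAffine Y'.left] {R' : Type u} [CommRing R']
    {φ' : Γ(Y'.left, ⊤) →+* R'} (c : Y' ⟶ Y) (ψ : R →+* R') (h : ψ.comp φ = φ'.comp c.left.appTop.hom)
    (hY : Set.range Y.hom ⊆ (U : Set S)) (hY' : Set.range Y'.hom ⊆ (U : Set S)) (a : ext Y φ ⟶ G)
    (b : Γ((chart G U).left, ⊤)) : cdv φ' hY' (extMap φ φ' c ψ h ≫ a) b = ψ (cdv φ hY a b) := by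
  apply (fn Y' φ').injective
  rw [fn_cdv, cd_comp_ext φ hY (range_of_hom (extHom Y' φ') hY') (extMap φ φ' c ψ h) a b, extMap_fn]

theorem cdv_extHom (hY : Set.range Y.hom ⊆ (U : Set S)) (g : Y ⟶ G) (b : Γ((chart G U).left, ⊤)) :
    cdv φ hY (extHom Y φ ≫ g) b = φ (cd hY g b) := by
  apply (fn Y φ).injective
  rw [fn_cdv, ← extHom_fn]
  exact cd_comp (extHom Y φ) hY (range_of_hom (extHom Y φ) hY) g b

/-- Points of an extension are determined by their coordinates. -/
theorem ext_cdv (hU : IsAffineOpen U) {hY : Set.range Y.hom ⊆ (U : Set S)} {a a' : ext Y φ ⟶ G}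
    (e : ∀ b, cdv φ hY a b = cdv φ hY a' b) : a = a' :=
  ext_cd hU (hY := range_of_hom (extHom Y φ) hY) fun b => (fn Y φ).symm.injective (e b)

end extPoints

end Groth.Agent.H82.Contract
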