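import Groth.Agent.H82.Contract.Tangent
import Groth.Agent.H82.Contract.Alg

/-!
# Products of contracted root homomorphisms

The ordered product of root homomorphisms of positive degree for a cocharacter, with separated characters,
is a closed immersion.
-/

set_option autoImplicit false
set_option linter.style.haveILetI false
set_option linter.unusedSectionVars false
universe u

open CategoryTheory MonoidalCategory CartesianMonoidalCategory MonObj GrpObj AlgebraicGeometry
open Groth.Agent.Lib.RedPts Groth.Agent.H82.BigCell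
open Groth.Agent.H82.RankOne (P P_eq P_add P_zero P_neg P_comp gmPt_comp gmPt_eq)

namespace Groth.Agent.H82.Contract

variable {S : Scheme.{u}}

section LaurMap

variable {Y Z : Over S} [IsAffine Y.left] [IsAffine Z.left] (f : Z ⟶ Y)

/-- Change of base of `Y[s, s⁻¹]`. -/
noncomputable def laurMap : laur Z ⟶ laur Y :=
  extMap _ _ f (AddMonoidAlgebra.mapRingHom ℤ f.left.appTop.hom) (by
    refine RingHom.ext fun a => ?_
    exact AddMonoidAlgebra.mapRingHom_single _ _ _)

theorem laurMap_fn (p : LaurentPolynomial Γ(Y.left, ⊤)) :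
    (laurMap f).left.appTop (fn Y _ p) = fn Z _ (AddMonoidAlgebra.mapRingHom ℤ f.left.appTop.hom p) :=
  extMap_fn _ _ _ _ _ p

@[reassoc (attr := simp)]
theorem laurMap_laurHom : laurMap f ≫ laurHom Y = laurHom Z ≫ f := extMap_extHom _ _ _ _ _

theorem laurMap_sU : Units.map (laurMap f).left.appTop.hom.toMonoidHom (sU Y) = sU Z := by
  refine Units.ext ?_
  refine (laurMap_fn f (LaurentPolynomial.T 1)).trans (congrArg (fn Z _) ?_)
  refine (AddMonoidAlgebra.mapRingHom_single _ _ _).trans ?_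
  rw [map_one]
  rfl

theorem laurMap_conjPt {G : Over S} [GrpObj G] (c : Red.Gm S ⟶ G) (g : Y ⟶ G) :
    laurMap f ≫ conjPt c g = conjPt c (f ≫ g) := by
  simp only [conjPt, cs, MonObj.comp_mul, GrpObj.comp_inv, laurMap_laurHom_assoc]
  rw [← Category.assoc, gmPt_comp, laurMap_sU]

end LaurMap

variable {G : Over S} [GrpObj G] [IsAffineHom G.hom] {U : S.Opens}

theorem range_chart : Set.range (chart G U).hom ⊆ (U : Set S) := by
  rintro _ ⟨q, rfl⟩
  exact q.2

/-- The action of the cocharacter on coordinates. -/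
noncomputable def kappa (c : Red.Gm S ⟶ G) [IsAffine (chart G U).left] :
    Γ((chart G U).left, ⊤) →+* LaurentPolynomial Γ((chart G U).left, ⊤) :=
  cdv LaurentPolynomial.C range_chart (conjPt c (chartHom G U))

theorem cdv_conjPt [IsAffine (chart G U).left] (c : Red.Gm S ⟶ G) {Z : Over S} [IsAffine Z.left]
    (hZ : Set.range Z.hom ⊆ (U : Set S)) (g : Z ⟶ G) (b : Γ((chart G U).left, ⊤)) :
    cdv LaurentPolynomial.C hZ (conjPt c g) b = AddMonoidAlgebra.mapRingHom ℤ (cd hZ g) (kappa c b) := by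
  conv_lhs => rw [← chartLift_fac hZ g, ← laurMap_conjPt, laurMap]
  exact cdv_extMap _ _ _ _ range_chart hZ (conjPt c (chartHom G U)) b

theorem cd_base {Y : Over S} [Mono Y.hom] (q : chart G U ⟶ Y) {Z : Over S}
    (hZ : Set.range Z.hom ⊆ (U : Set S)) (g : Z ⟶ G) (p : Z ⟶ Y) (r : Γ(Y.left, ⊤)) :
    cd hZ g (q.left.appTop r) = p.left.appTop r := by
  have h : chartLift hZ g ≫ q = p :=
    Over.OverMorphism.ext ((cancel_mono Y.hom).1 ((Over.w _).trans (Over.w p).symm))
  rw [← h, Over.comp_left, Scheme.Hom.comp_appTop]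
  rfl

section Universal

variable (Y : Over S) [IsAffine Y.left] {n : ℕ}

/-- Affine space of dimension `n` over `Y`. -/
noncomputable abbrev aff (n : ℕ) : Over S :=
  ext Y (MvPolynomial.C : Γ(Y.left, ⊤) →+* MvPolynomial (Fin n) Γ(Y.left, ⊤))

/-- The coordinates. -/
noncomputable abbrev affX (k : Fin n) : Γ((aff Y n).left, ⊤) := fn Y _ (MvPolynomial.X k)

/-- The universal product. -/
noncomputable def univPt (u : Fin n → (Red.Ga S ⟶ G)) : aff Y n ⟶ G := prodPts n fun k => P (u k) (affX Y k)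

variable {Y}

variable (Y) in
/-- The coordinate ring of affine space over `Y`. -/
noncomputable abbrev affHom (n : ℕ) : MvPolynomial (Fin n) Γ(Y.left, ⊤) →+* Γ((aff Y n).left, ⊤) :=
  (fn Y (MvPolynomial.C : Γ(Y.left, ⊤) →+* MvPolynomial (Fin n) Γ(Y.left, ⊤))).toRingHom

set_option maxHeartbeats 1000000 in
variable (Y) in
theorem exists_ev (d : Fin n → ℕ) : ∃ e : laur (aff Y n) ⟶ aff Y n,
    ∀ p, e.left.appTop (fn Y (MvPolynomial.C : Γ(Y.left, ⊤) →+* MvPolynomial (Fin n) Γ(Y.left, ⊤)) p) =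
      fn (aff Y n) LaurentPolynomial.C (wScale (affHom Y n) d p) := by
  obtain ⟨e, -, he⟩ := exists_toExt (MvPolynomial.C : Γ(Y.left, ⊤) →+* MvPolynomial (Fin n) Γ(Y.left, ⊤))
    (laurHom (aff Y n) ≫ extHom Y MvPolynomial.C)
    ((fn (aff Y n) LaurentPolynomial.C).toRingHom.comp (wScale (affHom Y n) d)) (by
      refine RingHom.ext fun a => ?_
      rw [Over.comp_left, Scheme.Hom.comp_appTop, CommRingCat.comp_apply, extHom_fn, extHom_fn,
        RingHom.comp_apply, RingHom.comp_apply, wScale_C]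
      rfl)
  exact ⟨e, he⟩

variable {T : Over S} [GrpObj T] {i : T ⟶ G} [IsMonHom i] {ν : Red.Gm S ⟶ T} {α : Fin n → (T ⟶ Red.Gm S)}
  {u : Fin n → (Red.Ga S ⟶ G)} [∀ k, IsMonHom (u k)] {d : Fin n → ℕ}

set_option maxHeartbeats 2000000 in
theorem conjPt_univPt (hu : ∀ k, IsRootPts i (α k) (u k)) (hd : ∀ k, HasDeg ν (α k) (d k : ℤ))
    {e : laur (aff Y n) ⟶ aff Y n}
    (he : ∀ p, e.left.appTop (fn Y (MvPolynomial.C : Γ(Y.left, ⊤) →+* MvPolynomial (Fin n) Γ(Y.left, ⊤)) p) = fn (aff Y n) LaurentPolynomial.C (wScale (affHom Y n) d p)) :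
    conjPt (ν ≫ i) (univPt Y u) = e ≫ univPt Y u := by
  rw [univPt, conjPt, comp_prodPts, comp_prodPts, mul_inv_eq_iff_eq_mul]
  refine mul_prodPts _ fun k => ?_
  rw [cs_eq, P_comp (u k), P_comp (u k), hu k, hd k, extHom_fn, he, wScale_X]
  congr 2
  rw [zpow_natCast, Units.val_pow_eq_pow_val, sU_val, ← map_pow, ← map_mul, LaurentPolynomial.T_pow, _root_.mul_one]
  rfl

/-- The image of the coordinate ring is stable under taking weighted components. -/
theorem component_mem [IsAffine (chart G U).left] (hu : ∀ k, IsRootPts i (α k) (u k))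
    (hd : ∀ k, HasDeg ν (α k) (d k : ℤ)) (hY : Set.range Y.hom ⊆ (U : Set S)) (j : ℕ)
    (b : Γ((chart G U).left, ⊤)) :
    cdv MvPolynomial.C hY (univPt Y u) ((kappa (U := U) (ν ≫ i) b).coeff (j : ℤ)) =
      MvPolynomial.weightedHomogeneousComponent d j (cdv MvPolynomial.C hY (univPt Y u) b) := by
  obtain ⟨e, he⟩ := exists_ev Y d
  have hA := range_of_hom (extHom Y (MvPolynomial.C : Γ(Y.left, ⊤) →+* MvPolynomial (Fin n) Γ(Y.left, ⊤))) hY
  have h1 : cdv LaurentPolynomial.C hA (conjPt (ν ≫ i) (univPt Y u)) b =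
      wScale (affHom Y n) d (cdv MvPolynomial.C hY (univPt Y u) b) := by
    apply (fn (aff Y n) LaurentPolynomial.C).injective
    rw [fn_cdv, conjPt_univPt hu hd he,
      cd_comp_ext (MvPolynomial.C : Γ(Y.left, ⊤) →+* MvPolynomial (Fin n) Γ(Y.left, ⊤)) hY _ e]
    exact he _
  rw [cdv_conjPt] at h1
  have h2 := congrArg (fun z => z.coeff (j : ℤ)) h1
  simp only [coeff_wScale, AddMonoidAlgebra.coeff_mapRingHom] at h2
  exact (fn Y _).injective ((fn_cdv _ hY _ _).trans h2)

/-- Characters are separated on points: a linear relation between their values has only the trivial solution. -/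
def Separated (α : Fin n → (T ⟶ Red.Gm S)) : Prop :=
  ∀ (Y : Over S), IsAffine Y.left → ∃ (Y' : Over S) (_ : IsAffine Y'.left) (c : Y' ⟶ Y) (t : Y' ⟶ T),
    ∀ r : Fin n → Γ(Y.left, ⊤), ∑ k, Red.gmFn (t ≫ α k) * c.left.appTop (r k) = 0 → ∀ k, r k = 0

theorem comp_univPt {Z : Over S} (a : Z ⟶ aff Y n) :
    a ≫ univPt Y u = prodPts n fun k => P (u k) (a.left.appTop (affX Y k)) := by
  rw [univPt, comp_prodPts]
  exact congrArg _ (funext fun k => P_comp (u k) a _)

/-- The linear parts of the coordinates of the universal product. -/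
noncomputable def linPart (hY : Set.range Y.hom ⊆ (U : Set S)) (u : Fin n → (Red.Ga S ⟶ G))
    (b : Γ((chart G U).left, ⊤)) (k : Fin n) : Γ(Y.left, ⊤) :=
  (cdv MvPolynomial.C hY (univPt Y u) b).coeff (Finsupp.single k 1)

set_option maxHeartbeats 2000000 in
theorem surjective_linPart (hu : ∀ k, IsRootPts i (α k) (u k)) (hsep : Separated α)
    [∀ k, Mono (u k)] (hU : IsAffineOpen U) (hY : Set.range Y.hom ⊆ (U : Set S)) :
    Submodule.span Γ(Y.left, ⊤) (Set.range (linPart hY u)) = ⊤ := by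
  by_contra hN
  obtain ⟨m, φ, hm, hne, hkill⟩ := exists_functional _ hN
  let Z : Over S := ext Y (Ideal.Quotient.mk m)
  have hZ := range_of_hom (extHom Y (Ideal.Quotient.mk m)) hY
  let F := fn Y (Ideal.Quotient.mk m)
  let f : Γ(Y.left, ⊤) →+* Γ(Z.left, ⊤) := F.toRingHom.comp (Ideal.Quotient.mk m)
  let x : Fin n → Γ(Z.left, ⊤) := fun k => F (φ (Pi.single k 1))
  let Q := fn Z (algebraMap Γ(Z.left, ⊤) (DualNumber Γ(Z.left, ⊤)))
  let χ := (MvPolynomial.eval₂Hom ((TrivSqZeroExt.inlHom Γ(Z.left, ⊤) Γ(Z.left, ⊤)).comp f)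
    (fun k => TrivSqZeroExt.inr (x k)))
  obtain ⟨a, -, ha⟩ := exists_toExt (MvPolynomial.C : Γ(Y.left, ⊤) →+* MvPolynomial (Fin n) Γ(Y.left, ⊤))
    (sqHom Z Γ(Z.left, ⊤) ≫ extHom Y (Ideal.Quotient.mk m)) (Q.toRingHom.comp χ) (by
      refine RingHom.ext fun r => ?_
      rw [RingHom.comp_apply, RingHom.comp_apply, MvPolynomial.eval₂Hom_C]
      exact ((congrArg (sqHom Z Γ(Z.left, ⊤)).left.appTop (extHom_fn Y _ r)).trans (extHom_fn Z _ _)).symm)
  have hP : a ≫ univPt Y u = prodPts n fun k => P (u k) (epsX (x k)) := by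
    rw [comp_univPt]
    refine congrArg _ (funext fun k => congrArg _ ?_)
    exact (ha _).trans (congrArg Q (MvPolynomial.eval₂Hom_X' _ _ _))
  have h1 : prodPts n (fun k => P (u k) (epsX (x k))) = 1 := by
    refine tan_ext hU (hY := hZ) (isTan_prodPts fun k => isTan_P_epsX _ _) isTan_one fun b => ?_
    rw [tn_one, ← hP, tn]
    have hcd : cdv (algebraMap Γ(Z.left, ⊤) (DualNumber Γ(Z.left, ⊤))) hZ (a ≫ univPt Y u) b =
        χ (cdv MvPolynomial.C hY (univPt Y u) b) := by
      apply Q.injective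
      rw [fn_cdv, cd_comp_ext _ hY _ a]
      exact ha _
    rw [hcd]
    refine (eval_eps f x _).trans ?_
    have hzero : φ (linPart hY u b) = 0 := hkill _ (Submodule.subset_span ⟨b, rfl⟩)
    rw [pi_eq_sum_univ' (linPart hY u b), map_sum] at hzero
    have := congrArg F hzero
    rw [map_sum, map_zero] at this
    rw [← this]
    refine Finset.sum_congr rfl fun k _ => ?_
    rw [map_smul, Algebra.smul_def, map_mul]
    rfl
  obtain ⟨Y', hY', c, t, hind⟩ := hsep Z inferInstance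
  have hzero : ∀ k, x k = 0 := fun k => by
    have h2 := tn_independent hu hU (hY := hZ) c t hind x h1 k
    change Ga.gaPt _ ≫ u k = 1 at h2
    rw [← MonObj.one_comp (u k) (X := dual Z), cancel_mono] at h2
    have h3 := congrArg Red.gaFn h2
    rw [Ga.gaFn_gaPt, Ga.gaFn_one] at h3
    have h4 := congrArg TrivSqZeroExt.snd (Q.injective (h3.trans (map_zero Q).symm))
    simpa using h4
  refine hne (LinearMap.pi_ext' fun k => LinearMap.ext_ring ?_)
  exact F.injective ((hzero k).trans (map_zero F).symm)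

theorem surjective_univPt [∀ k, Mono (u k)] (hu : ∀ k, IsRootPts i (α k) (u k))
    (hd : ∀ k, HasDeg ν (α k) (d k : ℤ)) (hpos : ∀ k, 0 < d k) (hsep : Separated α)
    (hU : IsAffineOpen U) [Mono Y.hom] (q : chart G U ⟶ Y) (hY : Set.range Y.hom ⊆ (U : Set S)) :
    Function.Surjective (cdv (MvPolynomial.C : Γ(Y.left, ⊤) →+* MvPolynomial (Fin n) Γ(Y.left, ⊤)) hY
      (univPt Y u)) := by
  haveI := isAffine_chart G hU
  let ρ := cdv (MvPolynomial.C : Γ(Y.left, ⊤) →+* MvPolynomial (Fin n) Γ(Y.left, ⊤)) hY (univPt Y u)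
  have hC : ∀ r, MvPolynomial.C r ∈ ρ.range := fun r => ⟨q.left.appTop r, by
    apply (fn Y _).injective
    rw [fn_cdv, cd_base q _ _ (extHom Y _), extHom_fn]⟩
  let A : Subalgebra Γ(Y.left, ⊤) (MvPolynomial (Fin n) Γ(Y.left, ⊤)) :=
    { ρ.range.toSubsemiring with algebraMap_mem' := hC }
  have hA : A = ⊤ := by
    refine subalgebra_eq_top d hpos A (fun j p hp => ?_) (fun k => ?_)
    · obtain ⟨b, rfl⟩ := hp
      exact ⟨_, component_mem hu hd hY j b⟩
    · let L : MvPolynomial (Fin n) Γ(Y.left, ⊤) →ₗ[Γ(Y.left, ⊤)] (Fin n → Γ(Y.left, ⊤)) :=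
        LinearMap.pi fun l => MvPolynomial.lcoeff _ (Finsupp.single l 1)
      have hlin : Pi.single k 1 ∈ Submodule.span Γ(Y.left, ⊤) (Set.range (linPart hY u)) := by
        rw [surjective_linPart hu hsep hU hY]; trivial
      have hsub : Submodule.span Γ(Y.left, ⊤) (Set.range (linPart hY u)) ≤ A.toSubmodule.map L :=
        Submodule.span_le.2 (by rintro _ ⟨b, rfl⟩; exact ⟨ρ b, ⟨b, rfl⟩, rfl⟩)
      obtain ⟨p, hp, hpk⟩ := hsub hlin
      exact ⟨p, hp, fun l => (congrFun hpk l).trans (Pi.single_apply _ _ _)⟩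
  intro p
  exact (hA ▸ trivial : p ∈ A)

end Universal

/-- The base affine open as an object over `S`. -/
noncomputable abbrev opn (U : S.Opens) : Over S := Over.mk U.ι

set_option maxHeartbeats 2000000 in
/-- Products of contracted root homomorphisms are closed immersions. -/
theorem isClosedImmersion_prodMap {T : Over S} [GrpObj T] {i : T ⟶ G} [IsMonHom i] {ν : Red.Gm S ⟶ T}
    {n : ℕ} {α : Fin n → (T ⟶ Red.Gm S)} {u : Fin n → (Red.Ga S ⟶ G)} [∀ k, IsMonHom (u k)]
    [∀ k, Mono (u k)] {d : Fin n → ℕ} (hu : ∀ k, IsRootPts i (α k) (u k))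
    (hd : ∀ k, HasDeg ν (α k) (d k : ℤ)) (hpos : ∀ k, 0 < d k) (hsep : Separated α) :
    IsClosedImmersion (RedSub.prodMap (Red.Ga S) n u).left := by
  set Pm := RedSub.prodMap (Red.Ga S) n u
  rw [IsZariskiLocalAtTarget.iff_of_iSup_eq_top (P := @IsClosedImmersion)
    (fun U : S.affineOpens => G.hom ⁻¹ᵁ U.1) (by rw [← Scheme.Hom.preimage_iSup, iSup_affineOpens_eq_top]; rfl)]
  intro ⟨U, hU⟩
  haveI : IsAffine (opn U).left := hU
  haveI := isAffine_chart G hU
  haveI : Mono (opn U).hom := inferInstanceAs (Mono U.ι)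
  have hY : Set.range (opn U).hom ⊆ (U : Set S) := by rintro _ ⟨q, rfl⟩; exact q.2
  let W := Pm.left ⁻¹ᵁ (G.hom ⁻¹ᵁ U)
  let WO : Over S := Over.mk (W.ι ≫ (RedSub.pow (Red.Ga S) n).hom)
  let incl : WO ⟶ RedSub.pow (Red.Ga S) n := Over.homMk W.ι rfl
  have hWO : Set.range WO.hom ⊆ (U : Set S) := by
    rintro _ ⟨⟨p, hp⟩, rfl⟩
    change (RedSub.pow (Red.Ga S) n).hom p ∈ (U : Set S)
    rw [← Over.w Pm]
    exact hp
  let φ : Γ((opn U).left, ⊤) →+* MvPolynomial (Fin n) Γ((opn U).left, ⊤) := MvPolynomial.C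
  let toB : ∀ {Z : Over S}, Set.range Z.hom ⊆ (U : Set S) → (Z ⟶ opn U) := fun {Z} hZ =>
    Over.homMk (IsOpenImmersion.lift U.ι Z.hom (by rwa [Scheme.Opens.range_ι])) (IsOpenImmersion.lift_fac _ _ _)
  let z : aff (opn U) n ⟶ RedSub.pow (Red.Ga S) n := tuple n fun k => Ga.gaPt (affX (opn U) k)
  have hz : z ≫ Pm = univPt (opn U) u := by
    rw [comp_prodMap, univPt]
    refine congrArg _ (funext fun k => ?_)
    rw [← Category.assoc, tuple_proj]
    rfl
  have hzU := range_of_hom (extHom (opn U) φ) hY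
  let w : aff (opn U) n ⟶ WO := Over.homMk (IsOpenImmersion.lift W.ι z.left (by
    rw [Scheme.Opens.range_ι]
    rintro _ ⟨p, rfl⟩
    change G.hom (Pm.left (z.left p)) ∈ (U : Set S)
    rw [← Scheme.Hom.comp_apply, Over.w Pm, ← Scheme.Hom.comp_apply, Over.w z]
    exact hzU ⟨p, rfl⟩)) (by
      change _ ≫ W.ι ≫ _ = _
      rw [IsOpenImmersion.lift_fac_assoc, Over.w z])
  have hw : w ≫ incl = z := Over.OverMorphism.ext (IsOpenImmersion.lift_fac _ _ _)
  obtain ⟨v, hv, hvfn⟩ := exists_toExt φ (toB hWO)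
    (MvPolynomial.eval₂Hom (toB hWO).left.appTop.hom (fun k => Red.gaFn (incl ≫ proj n k))) (by
      refine RingHom.ext fun r => ?_
      exact MvPolynomial.eval₂Hom_C _ _ _)
  haveI : Mono incl := (Over.forget S).mono_of_mono_map (inferInstanceAs (Mono W.ι))
  have hvw : v ≫ w = 𝟙 WO := by
    rw [← cancel_mono incl, Category.assoc, hw, Category.id_comp]
    refine pow_ext fun k => Ga.gaFn_injective ?_
    rw [Category.assoc, tuple_proj, Ga.gaFn_comp, Ga.gaFn_gaPt, hvfn]
    exact MvPolynomial.eval₂Hom_X' _ _ _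
  have hwv : w ≫ v = 𝟙 _ := by
    refine hom_ext_fn φ fun p => ?_
    have : ((fn (opn U) φ).toRingHom) = (w ≫ v).left.appTop.hom.comp (fn (opn U) φ).toRingHom := by
      refine MvPolynomial.ringHom_ext (fun r => ?_) (fun k => ?_)
      · change fn (opn U) φ (φ r) = (w ≫ v).left.appTop (fn (opn U) φ (φ r))
        rw [← extHom_fn, ← CommRingCat.comp_apply, ← Scheme.Hom.comp_appTop, ← Over.comp_left, Category.assoc,
          hv, show w ≫ toB hWO = extHom (opn U) φ from
            Over.OverMorphism.ext ((cancel_mono (opn U).hom).1 ((Over.w _).trans (Over.w _).symm))]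
      · change fn (opn U) φ (MvPolynomial.X k) = (w ≫ v).left.appTop (fn (opn U) φ (MvPolynomial.X k))
        rw [Over.comp_left, Scheme.Hom.comp_appTop, CommRingCat.comp_apply, hvfn, MvPolynomial.eval₂Hom_X',
          ← Ga.gaFn_comp, ← Category.assoc, hw, tuple_proj, Ga.gaFn_gaPt]
    exact (RingHom.congr_fun this p).symm
  haveI : IsIso w.left := ⟨v.left, by rw [← Over.comp_left, hwv]; rfl, by rw [← Over.comp_left, hvw]; rfl⟩
  rw [← MorphismProperty.cancel_left_of_respectsIso @IsClosedImmersion w.left]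
  have e : w.left ≫ (Pm.left ∣_ (G.hom ⁻¹ᵁ U)) = (chartLift hzU (univPt (opn U) u)).left := by
    rw [← cancel_mono (G.hom ⁻¹ᵁ U).ι, Category.assoc, morphismRestrict_ι, ← Category.assoc]
    refine Eq.trans ?_ (congrArg Over.Hom.left (chartLift_fac hzU (univPt (opn U) u))).symm
    rw [← hz, Over.comp_left]
    exact congrArg (· ≫ Pm.left) (congrArg Over.Hom.left hw)
  rw [e]
  haveI : IsAffine (G.hom ⁻¹ᵁ U : Scheme) := inferInstanceAs (IsAffine (chart G U).left)
  refine IsClosedImmersion.of_surjective_of_isAffine _ fun r => ?_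
  obtain ⟨p, rfl⟩ := (fn (opn U) φ).surjective r
  obtain ⟨b, hb⟩ := surjective_univPt hu hd hpos hsep hU (toB range_chart) hY p
  exact ⟨b, (fn_cdv φ hY (univPt (opn U) u) b).symm.trans (congrArg (fn (opn U) φ) hb)⟩

end Groth.Agent.H82.Contract
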