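import Groth.Agent.H82.Contract.Centre

/-!
# Generation of split groups by the torus and the root groups
-/

set_option autoImplicit false
set_option linter.style.haveILetI false
set_option linter.unusedSectionVars false
universe u

open CategoryTheory MonoidalCategory CartesianMonoidalCategory MonObj GrpObj AlgebraicGeometry
open Groth.Agent.Lib.RedPts Groth.Agent.H82.BigCell
open Groth.Agent.H82.RankOne (P P_eq eq_of_epi)

namespace Groth.Agent.H82.Contract

variable {S : Scheme.{u}} {G : Over S} [GrpObj G]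

/-- A functional which vanishes on no root. -/
theorem exists_regular_functional (D : Red.SplitRed G) : ∃ l : D.M →+ ℤ, ∀ a, l (D.P.root a) ≠ 0 := by
  classical
  let B := Module.finBasis ℤ D.M
  let q : D.idx → Polynomial ℤ := fun a => ∑ j : Fin (Module.finrank ℤ D.M), Polynomial.monomial (j : ℕ) (B.repr (D.P.root a) j)
  have hq : ∀ a, q a ≠ 0 := fun a h => by
    refine D.P.ne_zero a (B.ext_elem fun j => ?_)
    have h2 := congrArg (fun r => Polynomial.coeff r (j : ℕ)) h
    simp only [q, Polynomial.finsetSum_coeff, Polynomial.coeff_monomial, Polynomial.coeff_zero] at h2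
    rw [Finset.sum_eq_single j (fun k _ hk => if_neg fun h => hk (Fin.ext h))
      (fun h => absurd (Finset.mem_univ j) h), if_pos rfl] at h2
    simpa using h2
  obtain ⟨N, hN⟩ := Infinite.exists_notMem_finset (Finset.univ.biUnion fun a => (q a).roots.toFinset)
  refine ⟨(∑ j : Fin (Module.finrank ℤ D.M), (N ^ (j : ℕ)) • B.coord j).toAddMonoidHom, fun a ha => hN ?_⟩
  refine Finset.mem_biUnion.2 ⟨a, Finset.mem_univ a, Multiset.mem_toFinset.2 ((Polynomial.mem_roots (hq a)).2 ?_)⟩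
  rw [Polynomial.IsRoot.def, ← ha, Polynomial.eval_finsetSum]
  simp [Polynomial.eval_monomial, mul_comm]

variable {D : Red.SplitRed G}

/-- The roots of either sign give an open cell. -/
theorem exists_cell {l : D.M →+ ℤ} (hl : ∀ a, l (D.P.root a) ≠ 0) :
    ∃ (n m : ℕ) (e : Fin n → D.idx) (e' : Fin m → D.idx), (∀ k, l (D.P.root (e k)) < 0) ∧
      (∀ k, 0 < l (D.P.root (e' k))) ∧ Function.Injective e ∧ Function.Injective e' ∧ IsOpenImmersion (RedSub.cellMap D e e').left := by
  classical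
  let A := {a : D.idx // l (D.P.root a) < 0}
  let B := {a : D.idx // 0 < l (D.P.root a)}
  have hcard : Fintype.card A + Fintype.card B = Fintype.card D.idx := by
    rw [← Fintype.card_sum]
    refine Fintype.card_of_bijective (f := Sum.elim Subtype.val Subtype.val)
      ⟨Subtype.val_injective.sumElim Subtype.val_injective fun a c h => ?_, fun a => ?_⟩
    · have h1 := a.2
      rw [h] at h1
      exact absurd c.2 (not_lt.2 h1.le)
    · rcases lt_or_gt_of_ne (hl a) with h | h
      · exact ⟨Sum.inl ⟨a, h⟩, rfl⟩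
      · exact ⟨Sum.inr ⟨a, h⟩, rfl⟩
  exact ⟨_, _, fun k => ((Fintype.equivFin A).symm k).1, fun k => ((Fintype.equivFin B).symm k).1,
    fun k => ((Fintype.equivFin A).symm k).2, fun k => ((Fintype.equivFin B).symm k).2,
    Subtype.val_injective.comp (Equiv.injective _), Subtype.val_injective.comp (Equiv.injective _),
    isOpenImmersion_cellMap (l := l) (Subtype.val_injective.comp (Equiv.injective _))
      (Subtype.val_injective.comp (Equiv.injective _)) (fun k => ((Fintype.equivFin A).symm k).2)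
      (fun k => ((Fintype.equivFin B).symm k).2) hcard⟩

/-- The centralizer of a regular cocharacter is the torus. -/
theorem exists_torus_of_regular {l : D.M →+ ℤ} (hl : ∀ a, l (D.P.root a) ≠ 0) {X : Over S} {g : X ⟶ G}
    (hg : Commutes (gcochar D l) g) : ∃ t : X ⟶ D.T, t ≫ D.i = g := by
  obtain ⟨n, m, e, e', he, he', -, -, h⟩ := exists_cell hl
  exact exists_torus he he' hg

/-- The self-centralizing property of the maximal torus. -/
theorem exists_torus_of_commute_torus {X : Over S} {g : X ⟶ G}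
    (hg : ∀ (Y : Over S) (f : Y ⟶ X) (t : Y ⟶ D.T), (t ≫ D.i) * (f ≫ g) = (f ≫ g) * (t ≫ D.i)) :
    ∃ t : X ⟶ D.T, t ≫ D.i = g := by
  obtain ⟨l, hl⟩ := exists_regular_functional D
  refine exists_torus_of_regular hl fun Y f z => ?_
  rw [← Category.assoc z]
  exact hg Y f _

variable {n m : ℕ} {e : Fin n → D.idx} {e' : Fin m → D.idx}

/-- Flat-locally a point of the cell with a second prescribed combination in the cell. -/
theorem exists_meet [IsOpenImmersion (RedSub.cellMap D e e').left] {X : Over S} (b : (G ⊗ X : Over S) ⟶ G)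
    (hb : ∀ (Y : Over S) (p : Y ⟶ X), ∃ w : Y ⟶ G, lift w p ≫ b = 1) :
    ∃ (X' : Over S) (c : X' ⟶ X) (z z' : X' ⟶ RedSub.pow (Red.Ga S) n ⊗ (D.T ⊗ RedSub.pow (Red.Ga S) m)),
      Epi c.left ∧ Surjective c.left ∧
        lift (z ≫ RedSub.cellMap D e e') c ≫ b = z' ≫ RedSub.cellMap D e e' := by
  haveI := D.reductive.2.1
  let V := (RedSub.cellMap D e e').left.opensRange
  let E : (G ⊗ X).left.Opens := (fst G X).left ⁻¹ᵁ V ⊓ b.left ⁻¹ᵁ V
  let X' : Over S := Over.mk (E.ι ≫ (G ⊗ X).hom)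
  let j : X' ⟶ G ⊗ X := Over.homMk E.ι rfl
  haveI : Smooth (snd G X).left := inferInstanceAs (Smooth (Limits.pullback.snd G.hom X.hom))
  haveI : Flat (j ≫ snd G X).left := inferInstanceAs (Flat (E.ι ≫ (snd G X).left))
  haveI hsurj : Surjective (j ≫ snd G X).left := by
    refine ⟨fun p => ?_⟩
    let Y := ptObj X p
    haveI : IrreducibleSpace (G ⊗ Y).left := Groth.Agent.Lib.ActSep.irreducibleSpace_geomFibre
      (isConnected_fibre D) (X.left.fromSpecResidueField p ≫ X.hom)
    let ψ : (G ⊗ Y : Over S) ⟶ G ⊗ X := G ◁ ptHom X p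
    let y₀ : Y.left := IsLocalRing.closedPoint (X.left.residueField p)
    have h1 : ∀ (a : Y ⟶ G), a = 1 → a.left y₀ ∈ V := by
      rintro a rfl
      have := range_torus_subset (D := D) (e := e) (e' := e') (1 : Y ⟶ D.T)
      rw [MonObj.one_comp] at this
      exact this ⟨y₀, rfl⟩
    have hE : ((ψ ≫ fst G X).left ⁻¹ᵁ V : Set (G ⊗ Y).left).Nonempty := by
      refine ⟨(lift (1 : Y ⟶ G) (𝟙 Y)).left y₀, ?_⟩
      change (ψ ≫ fst G X).left ((lift (1 : Y ⟶ G) (𝟙 Y)).left y₀) ∈ V
      rw [← Scheme.Hom.comp_apply, ← Over.comp_left]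
      exact h1 _ (by simp [ψ])
    have hE' : ((ψ ≫ b).left ⁻¹ᵁ V : Set (G ⊗ Y).left).Nonempty := by
      obtain ⟨w, hw⟩ := hb Y (ptHom X p)
      refine ⟨(lift w (𝟙 Y)).left y₀, ?_⟩
      change (ψ ≫ b).left ((lift w (𝟙 Y)).left y₀) ∈ V
      rw [← Scheme.Hom.comp_apply, ← Over.comp_left]
      refine h1 _ (Eq.trans ?_ hw)
      rw [← Category.assoc]
      refine congrArg (· ≫ b) ?_
      apply CartesianMonoidalCategory.hom_ext <;> simp [ψ]
    obtain ⟨q, hq1, hq2⟩ := nonempty_preirreducible_inter ((ψ ≫ fst G X).left ⁻¹ᵁ V).2 ((ψ ≫ b).left ⁻¹ᵁ V).2 hE hE'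
    refine ⟨(⟨ψ.left q, hq1, hq2⟩ : E), ?_⟩
    change (snd G X).left (ψ.left q) = p
    rw [← Scheme.Hom.comp_apply, ← Over.comp_left, show ψ ≫ snd G X = snd G Y ≫ ptHom X p from by simp [ψ],
      Over.comp_left, Scheme.Hom.comp_apply]
    have h2 : (ptHom X p).left ((snd G Y).left q) ∈ Set.range (X.left.fromSpecResidueField p) := ⟨_, rfl⟩
    rwa [Scheme.range_fromSpecResidueField] at h2
  obtain ⟨z, hz⟩ := exists_factor (RedSub.cellMap D e e') (j ≫ fst G X) (by
    rintro _ ⟨w, rfl⟩; exact w.2.1)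
  obtain ⟨z', hz'⟩ := exists_factor (RedSub.cellMap D e e') (j ≫ b) (by
    rintro _ ⟨w, rfl⟩; exact w.2.2)
  refine ⟨X', j ≫ snd G X, z, z', Flat.epi_of_flat_of_surjective _, hsurj, ?_⟩
  rw [hz, hz']
  refine congrArg (· ≫ b) ?_
  apply CartesianMonoidalCategory.hom_ext <;> simp

/-- Every point is, on a flat cover, a product of two points of the cell. -/
theorem exists_two_cells [IsOpenImmersion (RedSub.cellMap D e e').left] {X : Over S} (h : X ⟶ G) :
    ∃ (X' : Over S) (c : X' ⟶ X) (z z' : X' ⟶ RedSub.pow (Red.Ga S) n ⊗ (D.T ⊗ RedSub.pow (Red.Ga S) m)),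
      Epi c.left ∧ Surjective c.left ∧
        c ≫ h = (z ≫ RedSub.cellMap D e e') * (z' ≫ RedSub.cellMap D e e') := by
  obtain ⟨X', c, z, z', h1, h2, h3⟩ := exists_meet (e := e) (e' := e') ((fst G X)⁻¹ * (snd G X ≫ h))
    fun Y p => ⟨p ≫ h, by simp [MonObj.comp_mul, GrpObj.comp_inv]⟩
  refine ⟨X', c, z, z', h1, h2, ?_⟩
  rw [← h3, MonObj.comp_mul, GrpObj.comp_inv, lift_fst, lift_snd_assoc, mul_inv_cancel_left]

/-- Every point translates, on a flat cover, some point of the cell into the cell. -/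
theorem exists_translate [IsOpenImmersion (RedSub.cellMap D e e').left] {X : Over S} (h : X ⟶ G) :
    ∃ (X' : Over S) (c : X' ⟶ X) (z z' : X' ⟶ RedSub.pow (Red.Ga S) n ⊗ (D.T ⊗ RedSub.pow (Red.Ga S) m)),
      Epi c.left ∧ Surjective c.left ∧
        (c ≫ h) * (z ≫ RedSub.cellMap D e e') = z' ≫ RedSub.cellMap D e e' := by
  obtain ⟨X', c, z, z', h1, h2, h3⟩ := exists_meet (e := e) (e' := e') ((snd G X ≫ h) * fst G X)
    fun Y p => ⟨(p ≫ h)⁻¹, by simp [MonObj.comp_mul]⟩
  refine ⟨X', c, z, z', h1, h2, ?_⟩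
  rw [← h3, MonObj.comp_mul, lift_fst, lift_snd_assoc]

/-- A point commuting with the torus and all the root groups is central. -/
theorem commute_all {X : Over S} {g : X ⟶ G}
    (hT : ∀ (Y : Over S) (f : Y ⟶ X) (t : Y ⟶ D.T), (t ≫ D.i) * (f ≫ g) = (f ≫ g) * (t ≫ D.i))
    (hu : ∀ (a : D.idx) (Y : Over S) (f : Y ⟶ X) (x : Y ⟶ Red.Ga S),
      (x ≫ D.u a) * (f ≫ g) = (f ≫ g) * (x ≫ D.u a))
    (h : X ⟶ G) : g * h = h * g := by
  obtain ⟨l, hl⟩ := exists_regular_functional D
  obtain ⟨n, m, e, e', -, -, -, -, ho⟩ := exists_cell hl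
  obtain ⟨X', c, z, z', hc, -, hcz⟩ := exists_two_cells (e := e) (e' := e') h
  refine eq_of_epi hc ?_
  have hp : ∀ {k : ℕ} (d : Fin k → D.idx) (w : X' ⟶ RedSub.pow (Red.Ga S) k),
      (c ≫ g) * (w ≫ RedSub.prodMap (Red.Ga S) k fun j => D.u (d j)) =
        (w ≫ RedSub.prodMap (Red.Ga S) k fun j => D.u (d j)) * (c ≫ g) := fun d w => by
    rw [comp_prodMap]
    exact mul_prodPts _ fun j => by rw [← Category.assoc, hu (d j) X' c]
  have hcell : ∀ w, Commute (c ≫ g) (w ≫ RedSub.cellMap D e e') := fun w => by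
    have e0 := comp_cellMap (e := e) e' w
    refine e0 ▸ ?_
    exact (Commute.mul_right (hp e _) (Commute.mul_right (hT X' c _).symm (hp e' _)))
  rw [MonObj.comp_mul, MonObj.comp_mul, hcz]
  exact ((hcell z).mul_right (hcell z')).eq

end Groth.Agent.H82.Contract
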