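import Groth.Agent.Lib.ProjSpace.Basic
import Mathlib.Algebra.Polynomial.Laurent
import Mathlib.RingTheory.RingHom.StandardSmooth
import Mathlib.Algebra.MvPolynomial.Equiv

/-!
# Laurent polynomial rings are standard smooth
-/

set_option autoImplicit false
universe u

open RingHom

namespace Groth.Agent.H82.Contract

variable {R : Type u} [CommRing R]

theorem isStandardSmooth_polynomial :
    IsStandardSmoothOfRelativeDimension 1 (Polynomial.C : R →+* Polynomial R) := by
  have h := (isStandardSmoothOfRelativeDimension_algebraMap _).mpr
    (Groth.Agent.Lib.ProjSpace.Basic.isStandardSmoothOfRelativeDimension_mvPolynomial R 1)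
  let e : MvPolynomial (Fin 1) R ≃ₐ[R] Polynomial R :=
    (MvPolynomial.renameEquiv R finOneEquiv).trans (MvPolynomial.uniqueAlgEquiv R Unit)
  have h' := IsStandardSmoothOfRelativeDimension.comp (IsStandardSmoothOfRelativeDimension.equiv e.toRingEquiv) h
  rw [show (Polynomial.C : R →+* Polynomial R) =
    (e.toRingEquiv : MvPolynomial (Fin 1) R →+* Polynomial R).comp (algebraMap R _) from
      RingHom.ext fun r => (e.commutes r).symm]
  rwa [zero_add] at h'

theorem isStandardSmooth_laurent :
    IsStandardSmoothOfRelativeDimension 1 (LaurentPolynomial.C : R →+* LaurentPolynomial R) := by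
  have h := IsStandardSmoothOfRelativeDimension.comp
    (IsStandardSmoothOfRelativeDimension.algebraMap_isLocalizationAway
      (Rᵣ := LaurentPolynomial R) (Polynomial.X : Polynomial R))
    (isStandardSmooth_polynomial (R := R))
  rw [zero_add] at h
  convert h using 1
  exact RingHom.ext fun r => (Polynomial.toLaurent_C r).symm

/-- Group algebras of lattices are standard smooth of relative dimension the rank. -/
theorem isStandardSmooth_lattice : ∀ (r : ℕ) (R : Type u) [CommRing R],
    IsStandardSmoothOfRelativeDimension r
      (algebraMap R (MonoidAlgebra R (Multiplicative (Fin r → ℤ))))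
  | 0, R, _ => by
    let e : R ≃+* MonoidAlgebra R (Multiplicative (Fin 0 → ℤ)) :=
      { MonoidAlgebra.singleOneRingHom with
        invFun := fun p => p.coeff 1
        left_inv := fun r => Finsupp.single_eq_same
        right_inv := fun p => MonoidAlgebra.ext (Finsupp.ext fun g => by
          rw [Subsingleton.elim g 1]; exact Finsupp.single_eq_same) }
    exact IsStandardSmoothOfRelativeDimension.equiv e
  | r + 1, R, _ => by
    let A := MonoidAlgebra R (Multiplicative (Fin r → ℤ))
    let g : Multiplicative (Fin (r + 1) → ℤ) ≃* Multiplicative ℤ × Multiplicative (Fin r → ℤ) :=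
      (AddEquiv.toMultiplicative
        ({ Fin.consEquiv (fun _ => ℤ) |>.symm with map_add' := fun _ _ => rfl } :
          (Fin (r + 1) → ℤ) ≃+ ℤ × (Fin r → ℤ))).trans (MulEquiv.prodMultiplicative _ _)
    let e : LaurentPolynomial A ≃+* MonoidAlgebra R (Multiplicative (Fin (r + 1) → ℤ)) :=
      ((AddMonoidAlgebra.toMultiplicative A ℤ).trans MonoidAlgebra.curryRingEquiv.symm).trans
        (MonoidAlgebra.domCongr R R g.symm).toRingEquiv
    have h := IsStandardSmoothOfRelativeDimension.comp (IsStandardSmoothOfRelativeDimension.equiv e)
      (IsStandardSmoothOfRelativeDimension.comp (isStandardSmooth_laurent (R := A)) (isStandardSmooth_lattice r R))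
    rw [zero_add, add_comm] at h
    convert h using 1
    refine RingHom.ext fun x => ?_
    change MonoidAlgebra.single 1 x = e (AddMonoidAlgebra.single 0 (MonoidAlgebra.single 1 x))
    change _ = MonoidAlgebra.domCongr R R g.symm (MonoidAlgebra.curryRingEquiv.symm
      (AddMonoidAlgebra.toMultiplicative A ℤ (AddMonoidAlgebra.single 0 (MonoidAlgebra.single 1 x))))
    rw [AddMonoidAlgebra.toMultiplicative_single, ofAdd_zero, MonoidAlgebra.curryRingEquiv_symm_single]
    simp only [MonoidAlgebra.domCongr_single]
    exact congrArg (MonoidAlgebra.single · x) g.symm.map_one.symm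

end Groth.Agent.H82.Contract
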