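import Groth.Agent.H82.Contract.Chart
import Mathlib.Algebra.Polynomial.Laurent

/-!
# Limits of conjugates by a cocharacter

`IsLimPt c g L` says that `s ↦ c(s) g c(s)⁻¹` extends to `s = 0` with value `L`.
-/

set_option autoImplicit false
set_option linter.style.haveILetI false
set_option linter.unusedSectionVars false
universe u

open CategoryTheory MonoidalCategory CartesianMonoidalCategory MonObj GrpObj AlgebraicGeometry
open Groth.Agent.Lib.RedPts Groth.Agent.H82.BigCell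
open Groth.Agent.H82.RankOne (gmPt_comp gmPt_one gmPt_inv gmPt_eq gmPt_mul)

namespace Groth.Agent.H82.Contract

variable {S : Scheme.{u}}

theorem eq_C_of_toLaurent_eq_invert {R : Type*} [CommRing R] {p q : Polynomial R}
    (he : Polynomial.toLaurent p = LaurentPolynomial.invert (Polynomial.toLaurent q)) :
    ∃ r, p = Polynomial.C r ∧ q = Polynomial.C r := by
  have c' : ∀ (r : Polynomial R) (n : ℕ), (Polynomial.toLaurent r).coeff (n : ℤ) = r.coeff n := fun r n => by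
    rw [LaurentPolynomial.coeff_toLaurent]
    exact Finsupp.mapDomain_apply Nat.castEmbedding.injective _ n
  have z : ∀ (r : Polynomial R) (n : ℕ), 0 < n → (Polynomial.toLaurent r).coeff (-(n : ℤ)) = 0 := fun r n hn =>
    Finsupp.notMem_support_iff.1 fun hm => by
      rw [LaurentPolynomial.support_coeff_toLaurent] at hm
      simp at hm
      omega
  have hn : ∀ n : ℕ, 0 < n → p.coeff n = 0 ∧ q.coeff n = 0 := fun n hn => by
    have h1 := congrArg (fun r => r.coeff (n : ℤ)) he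
    have h2 := congrArg (fun r => r.coeff (-(n : ℤ))) he
    simp only [LaurentPolynomial.invert_apply, neg_neg] at h1 h2
    rw [c', z _ _ hn] at h1
    rw [c', z _ _ hn] at h2
    exact ⟨h1, h2.symm⟩
  have h0 := congrArg (fun r => r.coeff ((0 : ℕ) : ℤ)) he
  simp only [LaurentPolynomial.invert_apply, Nat.cast_zero, neg_zero] at h0
  rw [← Nat.cast_zero, c', c'] at h0
  refine ⟨p.coeff 0, ?_, ?_⟩
  · ext (_ | n)
    · simp
    · simp [(hn (n + 1) n.succ_pos).1]
  · ext (_ | n)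
    · simp [h0]
    · simp [(hn (n + 1) n.succ_pos).2]

section Test

variable (Y : Over S) [IsAffine Y.left]

/-- `Y[s]`. -/
noncomputable abbrev poly : Over S := ext Y (Polynomial.C : Γ(Y.left, ⊤) →+* Polynomial Γ(Y.left, ⊤))

/-- `Y[s, s⁻¹]`. -/
noncomputable abbrev laur : Over S :=
  ext Y (LaurentPolynomial.C : Γ(Y.left, ⊤) →+* LaurentPolynomial Γ(Y.left, ⊤))

/-- The projection `Y[s] ⟶ Y`. -/
noncomputable abbrev polyHom : poly Y ⟶ Y :=
  extHom Y (Polynomial.C : Γ(Y.left, ⊤) →+* Polynomial Γ(Y.left, ⊤))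

/-- The projection `Y[s, s⁻¹] ⟶ Y`. -/
noncomputable abbrev laurHom : laur Y ⟶ Y :=
  extHom Y (LaurentPolynomial.C : Γ(Y.left, ⊤) →+* LaurentPolynomial Γ(Y.left, ⊤))

/-- The open piece `Y[s, s⁻¹] ⟶ Y[s]`. -/
noncomputable def toPoly : laur Y ⟶ poly Y :=
  extMap _ _ (𝟙 Y) (Polynomial.toLaurent) (by
    refine RingHom.ext fun a => ?_
    simp)

/-- Evaluation of functions. -/
theorem toPoly_fn (p : Polynomial Γ(Y.left, ⊤)) :
    (toPoly Y).left.appTop (fn Y _ p) = fn Y _ (Polynomial.toLaurent p) :=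
  extMap_fn _ _ _ _ _ p

theorem toPoly_injective : Function.Injective (toPoly Y).left.appTop := by
  intro a b h
  obtain ⟨p, rfl⟩ := (fn Y _).surjective a
  obtain ⟨q, rfl⟩ := (fn Y _).surjective b
  rw [toPoly_fn, toPoly_fn] at h
  rw [Polynomial.toLaurent_injective ((fn Y _).injective h)]

@[reassoc (attr := simp)]
theorem toPoly_polyHom : toPoly Y ≫ polyHom Y = laurHom Y :=
  (extMap_extHom _ _ _ _ _).trans (Category.comp_id _)

/-- The involution `s ↦ s⁻¹`. -/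
noncomputable def flipS : laur Y ⟶ laur Y :=
  extMap _ _ (𝟙 Y) (LaurentPolynomial.invert (R := Γ(Y.left, ⊤))).toRingEquiv.toRingHom (by
    refine RingHom.ext fun a => ?_
    simp)

theorem flipS_fn (p : LaurentPolynomial Γ(Y.left, ⊤)) :
    (flipS Y).left.appTop (fn Y _ p) = fn Y _ (LaurentPolynomial.invert p) :=
  extMap_fn _ _ _ _ _ p

@[reassoc (attr := simp)]
theorem flipS_laurHom : flipS Y ≫ laurHom Y = laurHom Y :=
  (extMap_extHom _ _ _ _ _).trans (Category.comp_id _)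

theorem exists_zeroSec : ∃ d : Y ⟶ poly Y, d ≫ polyHom Y = 𝟙 Y ∧
    ∀ r, d.left.appTop (fn Y _ r) = Polynomial.evalRingHom 0 r :=
  exists_toExt _ (𝟙 Y) _ (by refine RingHom.ext fun a => ?_; simp)

/-- The section `s = 0`. -/
noncomputable def zeroSec : Y ⟶ poly Y := (exists_zeroSec Y).choose

@[reassoc (attr := simp)]
theorem zeroSec_polyHom : zeroSec Y ≫ polyHom Y = 𝟙 Y := (exists_zeroSec Y).choose_spec.1

theorem zeroSec_fn (r : Polynomial Γ(Y.left, ⊤)) :
    (zeroSec Y).left.appTop (fn Y _ r) = r.eval 0 := (exists_zeroSec Y).choose_spec.2 r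

theorem exists_oneSec : ∃ d : Y ⟶ laur Y, d ≫ laurHom Y = 𝟙 Y ∧
    ∀ r, d.left.appTop (fn Y _ r) = LaurentPolynomial.eval₂ (RingHom.id _) (1 : Γ(Y.left, ⊤)ˣ) r :=
  exists_toExt _ (𝟙 Y) _ (by refine RingHom.ext fun a => ?_; simp)

/-- The section `s = 1`. -/
noncomputable def oneSec : Y ⟶ laur Y := (exists_oneSec Y).choose

@[reassoc (attr := simp)]
theorem oneSec_laurHom : oneSec Y ≫ laurHom Y = 𝟙 Y := (exists_oneSec Y).choose_spec.1

theorem oneSec_fn (r : LaurentPolynomial Γ(Y.left, ⊤)) :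
    (oneSec Y).left.appTop (fn Y _ r) =
      LaurentPolynomial.eval₂ (RingHom.id _) (1 : Γ(Y.left, ⊤)ˣ) r := (exists_oneSec Y).choose_spec.2 r

/-- The unit `s`. -/
noncomputable def sU : Γ((laur Y).left, ⊤)ˣ :=
  Units.map (fn Y _).toRingHom.toMonoidHom
    (LaurentPolynomial.isUnit_T (R := Γ(Y.left, ⊤)) 1).unit

theorem sU_val : (sU Y : Γ((laur Y).left, ⊤)) = fn Y _ (LaurentPolynomial.T 1) := rfl

theorem flipS_sU : Units.map (flipS Y).left.appTop.hom.toMonoidHom (sU Y) = (sU Y)⁻¹ := by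
  refine mul_right_cancel (b := sU Y) (Units.ext ?_)
  rw [inv_mul_cancel, Units.val_mul, Units.val_one]
  change (flipS Y).left.appTop (fn Y _ (LaurentPolynomial.T 1)) * fn Y _ (LaurentPolynomial.T 1) = 1
  rw [flipS_fn, LaurentPolynomial.invert_T, ← map_mul, ← LaurentPolynomial.T_add, neg_add_cancel,
    LaurentPolynomial.T_zero, map_one]

theorem oneSec_sU : Units.map (oneSec Y).left.appTop.hom.toMonoidHom (sU Y) = 1 := by
  refine Units.ext ?_
  change (oneSec Y).left.appTop (fn Y _ (LaurentPolynomial.T 1)) = 1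
  rw [oneSec_fn, LaurentPolynomial.eval₂_T]
  simp

end Test

variable {G : Over S} [GrpObj G] (c : Red.Gm S ⟶ G)

/-- The point `c(s)`. -/
noncomputable def cs (Y : Over S) [IsAffine Y.left] : laur Y ⟶ G := Gm.gmPt (sU Y) ≫ c

/-- The conjugate `c(s) g c(s)⁻¹`. -/
noncomputable def conjPt {Y : Over S} [IsAffine Y.left] (g : Y ⟶ G) : laur Y ⟶ G :=
  cs c Y * (laurHom Y ≫ g) * (cs c Y)⁻¹

/-- `c(s) g c(s)⁻¹` tends to `L` as `s` tends to `0`. -/
def IsLimPt {X : Over S} (g L : X ⟶ G) : Prop :=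
  ∀ (Y : Over S) (f : Y ⟶ X) (_ : IsAffine Y.left),
    ∃ h : poly Y ⟶ G, toPoly Y ≫ h = conjPt c (f ≫ g) ∧ zeroSec Y ≫ h = f ≫ L

variable {c}

theorem oneSec_conjPt [IsMonHom c] {Y : Over S} [IsAffine Y.left] (g : Y ⟶ G) :
    oneSec Y ≫ conjPt c g = g := by
  simp only [conjPt, cs, MonObj.comp_mul, GrpObj.comp_inv, oneSec_laurHom_assoc]
  rw [← Category.assoc, gmPt_comp, oneSec_sU, gmPt_one, MonObj.one_comp, inv_one, _root_.one_mul,
    _root_.mul_one]

theorem flipS_conjPt [IsMonHom c] {Y : Over S} [IsAffine Y.left] (g : Y ⟶ G) :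
    flipS Y ≫ conjPt c⁻¹ g = conjPt c g := by
  simp only [conjPt, cs, MonObj.comp_mul, GrpObj.comp_inv, flipS_laurHom_assoc]
  rw [← Category.assoc, gmPt_comp, flipS_sU, gmPt_inv, GrpObj.inv_comp _ c, _root_.inv_inv]

theorem IsLimPt.mul {X : Over S} {g g' L L' : X ⟶ G} (h : IsLimPt c g L) (h' : IsLimPt c g' L') :
    IsLimPt c (g * g') (L * L') := fun Y f hY => by
  obtain ⟨a, ha, ha0⟩ := h Y f hY
  obtain ⟨b, hb, hb0⟩ := h' Y f hY
  refine ⟨a * b, ?_, ?_⟩
  · rw [MonObj.comp_mul, ha, hb, MonObj.comp_mul, conjPt, conjPt, conjPt, MonObj.comp_mul]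
    group
  · rw [MonObj.comp_mul, ha0, hb0, MonObj.comp_mul]

theorem IsLimPt.inv {X : Over S} {g L : X ⟶ G} (h : IsLimPt c g L) : IsLimPt c g⁻¹ L⁻¹ := fun Y f hY => by
  obtain ⟨a, ha, ha0⟩ := h Y f hY
  refine ⟨a⁻¹, ?_, ?_⟩
  · rw [GrpObj.comp_inv, ha, GrpObj.comp_inv, conjPt, conjPt, GrpObj.comp_inv]
    group
  · rw [GrpObj.comp_inv, ha0, GrpObj.comp_inv]

theorem IsLimPt.comp {X X' : Over S} {g L : X ⟶ G} (h : IsLimPt c g L) (x : X' ⟶ X) :
    IsLimPt c (x ≫ g) (x ≫ L) := fun Y f hY => by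
  simpa only [Category.assoc] using h Y (f ≫ x) hY

/-- A point commuting with the cocharacter is its own limit. -/
theorem isLimPt_of_commute {X : Over S} (g : X ⟶ G)
    (hg : ∀ (Y : Over S) (f : Y ⟶ X) (z : Y ⟶ Red.Gm S), (z ≫ c) * (f ≫ g) = (f ≫ g) * (z ≫ c)) :
    IsLimPt c g g := fun Y f hY => by
  refine ⟨polyHom Y ≫ f ≫ g, ?_, by rw [zeroSec_polyHom_assoc]⟩
  rw [toPoly_polyHom_assoc, conjPt, cs, ← Category.assoc (laurHom Y), hg, mul_inv_cancel_right]

theorem isLimPt_one {X : Over S} : IsLimPt c (1 : X ⟶ G) 1 :=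
  isLimPt_of_commute 1 fun Y f z => by rw [MonObj.comp_one, _root_.one_mul, _root_.mul_one]

variable [IsAffineHom G.hom] [IsMonHom c]

theorem IsLimPt.unique {X : Over S} {g L L' : X ⟶ G} (h : IsLimPt c g L) (h' : IsLimPt c g L') : L = L' :=
  pt_ext_small fun Y f hY hs => by
    obtain ⟨a, ha, ha0⟩ := h Y f hY
    obtain ⟨b, hb, hb0⟩ := h' Y f hY
    rw [← ha0, ← hb0, eq_of_injective (toPoly Y) (toPoly_injective Y) (hs.of_hom (polyHom Y))
      (ha.trans hb.symm)]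

omit [GrpObj G] [IsMonHom c] in
/-- A point over `Y[s]` which also extends to `s = ∞` is constant. -/
theorem eq_const {Y : Over S} [IsAffine Y.left] (hs : Small Y) {h h' : poly Y ⟶ G}
    (e : toPoly Y ≫ h = flipS Y ≫ toPoly Y ≫ h') :
    h = polyHom Y ≫ zeroSec Y ≫ h ∧ zeroSec Y ≫ h' = zeroSec Y ≫ h := by
  obtain ⟨U, hU, hY⟩ := hs
  have hP := range_of_hom (polyHom Y) hY
  have hL := range_of_hom (laurHom Y) hY
  have key : ∀ b, ∃ r : Γ(Y.left, ⊤), cd hP h b = fn Y _ (Polynomial.C r) ∧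
      cd hP h' b = fn Y _ (Polynomial.C r) := fun b => by
    obtain ⟨p, hp⟩ := (fn Y (Polynomial.C : Γ(Y.left, ⊤) →+* Polynomial Γ(Y.left, ⊤))).surjective (cd hP h b)
    obtain ⟨q, hq⟩ := (fn Y (Polynomial.C : Γ(Y.left, ⊤) →+* Polynomial Γ(Y.left, ⊤))).surjective (cd hP h' b)
    have a1 : cd hL (toPoly Y ≫ h) b = (toPoly Y).left.appTop (cd hP h b) := cd_comp (toPoly Y) hP hL h b
    have a2 : cd hL (toPoly Y ≫ h') b = (toPoly Y).left.appTop (cd hP h' b) := cd_comp (toPoly Y) hP hL h' b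
    have a3 : cd hL (flipS Y ≫ toPoly Y ≫ h') b = (flipS Y).left.appTop (cd hL (toPoly Y ≫ h') b) :=
      cd_comp (flipS Y) hL hL (toPoly Y ≫ h') b
    rw [← e, a1, a2] at a3
    rename' a3 => e1
    rw [← hp, ← hq, toPoly_fn, toPoly_fn, flipS_fn] at e1
    have e2 := RingEquiv.injective _ e1
    have e3 := eq_C_of_toLaurent_eq_invert e2
    exact ⟨e3.choose, hp.symm.trans (congrArg _ e3.choose_spec.1), hq.symm.trans (congrArg _ e3.choose_spec.2)⟩
  refine ⟨ext_cd hU (hY := hP) fun b => ?_, ext_cd hU (hY := hY) fun b => ?_⟩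
  · obtain ⟨r, hr, -⟩ := key b
    have a1 : cd hY (zeroSec Y ≫ h) b = r := by
      rw [cd_comp (zeroSec Y) hP hY h b, hr]
      exact (zeroSec_fn Y (Polynomial.C r)).trans Polynomial.eval_C
    exact hr.trans ((extHom_fn Y _ r).symm.trans
      (((cd_comp (polyHom Y) hY hP (zeroSec Y ≫ h) b).trans (congrArg _ a1)).symm))
  · obtain ⟨r, hr, hr'⟩ := key b
    exact (cd_comp (zeroSec Y) hP hY h' b).trans ((congrArg _ (hr'.trans hr.symm)).trans
      (cd_comp (zeroSec Y) hP hY h b).symm)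

/-- A point with limits both at `0` and at `∞` equals them. -/
theorem IsLimPt.eq_of_both {X : Over S} {g L L' : X ⟶ G} (h : IsLimPt c g L) (h' : IsLimPt c⁻¹ g L') :
    g = L ∧ g = L' := by
  have key : ∀ (Y : Over S) (f : Y ⟶ X), IsAffine Y.left → Small Y → f ≫ g = f ≫ L ∧ f ≫ g = f ≫ L' :=
    fun Y f hY hs => by
      obtain ⟨a, ha, ha0⟩ := h Y f hY
      obtain ⟨b, hb, hb0⟩ := h' Y f hY
      have e : toPoly Y ≫ a = flipS Y ≫ toPoly Y ≫ b := by rw [ha, hb, flipS_conjPt]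
      obtain ⟨e1, e2⟩ := eq_const hs e
      have eg : f ≫ g = zeroSec Y ≫ a := by
        rw [← oneSec_conjPt (c := c) (f ≫ g), ← ha, e1, toPoly_polyHom_assoc, oneSec_laurHom_assoc,
          zeroSec_polyHom_assoc]
      exact ⟨eg.trans ha0, eg.trans (e2.symm.trans hb0)⟩
  exact ⟨pt_ext_small fun Y f hY hs => (key Y f hY hs).1, pt_ext_small fun Y f hY hs => (key Y f hY hs).2⟩

end Groth.Agent.H82.Contract
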