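import Groth.Agent.H82.Contract.Dim
import Groth.Agent.Lib.ActSep.UnivOpen
import Groth.Agent.H2.FibreDimPullback
import Mathlib.AlgebraicGeometry.Morphisms.FlatMono

/-!
# The big cell is open
-/

set_option autoImplicit false
set_option linter.style.haveILetI false
universe u

open CategoryTheory Limits MonoidalCategory CartesianMonoidalCategory MonObj GrpObj AlgebraicGeometry

namespace Groth.Agent.H82.Contract

variable {S : Scheme.{u}} {G : Over S} [GrpObj G] (D : Red.SplitRed G)

/-- The fibre dimension of a split group. -/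
theorem fibreDimAt_group (y : G.left) : FlatMor.fibreDimAt G.hom y =
    ((Module.finrank ℤ D.M + Fintype.card D.idx : ℕ) : WithBot ℕ∞) := by
  haveI := D.reductive.2.1
  set s := G.hom y
  let G' := Red.geomFibre s G
  haveI : Smooth G'.hom := inferInstanceAs (Smooth (pullback.snd G.hom (Red.geomPt s)))
  let t : Spec (CommRingCat.of (AlgebraicClosure (S.residueField s))) := IsLocalRing.closedPoint _
  have hpb : IsPullback (pullback.fst G.hom (Red.geomPt s)) G'.hom G.hom (Red.geomPt s) :=
    IsPullback.of_hasPullback G.hom (Red.geomPt s)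
  let z : G'.left := η[G'].left t
  have hz : G.hom (pullback.fst G.hom (Red.geomPt s) z) = s := by
    rw [← Scheme.Hom.comp_apply, hpb.w, Scheme.Hom.comp_apply]
    rw [Scheme.Hom.comp_apply, Scheme.fromSpecResidueField_apply]
  rw [Groth.Agent.H2.Rigid.fibreDimAt_eq_of_group G y _ hz.symm,
    ← Groth.Agent.H2.FibreDimPullback.fibreDimAt_of_isPullback hpb z]
  refine (Groth.Agent.Lib.ActSep.fibreDimAt_unit G' t).trans ?_
  have huniv : G'.hom ⁻¹' {t} = Set.univ :=
    Set.eq_univ_of_forall fun w => Subsingleton.elim (α := Spec (CommRingCat.of (AlgebraicClosure (S.residueField s)))) _ _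
  rw [huniv, (Homeomorph.Set.univ ↥G'.left).isHomeomorph.topologicalKrullDim_eq]
  exact D.dim_fibre s

theorem smooth_T : SmoothOfRelativeDimension (Module.finrank ℤ D.M) D.T.hom := by
  let e : D.M ≃+ (Fin (Module.finrank ℤ D.M) → ℤ) := (Module.finBasis ℤ D.M).equivFun.toAddEquiv
  exact smoothOfRelativeDimension_of_iso S
    ((Lib.Tori.BaseChange.overIso D.split).trans (Lib.Tori.DS.dsOverIso (N := D.M) (M := Fin (Module.finrank ℤ D.M) → ℤ) S e.symm))
    (smoothOfRelativeDimension_DS S _)

variable {D} {l : D.M →+ ℤ} {n m : ℕ} {e : Fin n → D.idx} {e' : Fin m → D.idx}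

/-- The cell map is an open immersion. -/
theorem isOpenImmersion_cellMap (h : Function.Injective e) (h' : Function.Injective e')
    (he : ∀ k, l (D.P.root (e k)) < 0) (he' : ∀ k, 0 < l (D.P.root (e' k)))
    (hcard : n + m = Fintype.card D.idx) : IsOpenImmersion (RedSub.cellMap D e e').left := by
  haveI := D.reductive.2.1
  haveI := mono_cellMap h h' he he'
  haveI : Mono (RedSub.cellMap D e e').left :=
    inferInstanceAs (Mono ((Over.forget S).map (RedSub.cellMap D e e')))
  haveI := smoothOfRelativeDimension_pow S n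
  haveI := smoothOfRelativeDimension_pow S m
  haveI := smooth_T D
  haveI : SmoothOfRelativeDimension (Module.finrank ℤ D.M + m) (D.T ⊗ RedSub.pow (Red.Ga S) m).hom :=
    smoothOfRelativeDimension_tensor
  haveI hW : SmoothOfRelativeDimension (n + (Module.finrank ℤ D.M + m))
      (RedSub.pow (Red.Ga S) n ⊗ (D.T ⊗ RedSub.pow (Red.Ga S) m)).hom := smoothOfRelativeDimension_tensor
  haveI := hW.smooth
  haveI : Etale (RedSub.cellMap D e e').left :=
    Groth.Agent.H2.Rigid.etale_of_unramified
      (RedSub.pow (Red.Ga S) n ⊗ (D.T ⊗ RedSub.pow (Red.Ga S) m)).hom G.hom _ (Over.w _) fun x => by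
        rw [fibreDimAt_group D, fibreDimAt_of_smoothOfRelativeDimension _ (n := n + (Module.finrank ℤ D.M + m)) x,
          ← hcard]
        congr 1
        omega
  exact IsOpenImmersion.of_flat_of_mono _

end Groth.Agent.H82.Contract
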