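import Groth.Agent.H82.Contract.Open

/-!
# The image of the big cell
-/

set_option autoImplicit false
set_option linter.style.haveILetI false
set_option linter.unusedSectionVars false
universe u

open CategoryTheory MonoidalCategory CartesianMonoidalCategory MonObj GrpObj AlgebraicGeometry
open Groth.Agent.Lib.RedPts Groth.Agent.H82.BigCell
open Groth.Agent.H82.RankOne (P P_eq P_zero)

namespace Groth.Agent.H82.Contract

variable {S : Scheme.{u}} {G : Over S} [GrpObj G] {D : Red.SplitRed G}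

/-- Conjugation by the torus of an ordered product of root elements. -/
theorem exists_conj_prod {n : ℕ} (e : Fin n → D.idx) {X : Over S} (τ : X ⟶ D.T)
    (z : X ⟶ RedSub.pow (Red.Ga S) n) : ∃ z' : X ⟶ RedSub.pow (Red.Ga S) n,
    (τ ≫ D.i) * (z ≫ RedSub.prodMap (Red.Ga S) n fun k => D.u (e k)) =
      (z' ≫ RedSub.prodMap (Red.Ga S) n fun k => D.u (e k)) * (τ ≫ D.i) := by
  refine ⟨tuple n fun k => Ga.gaPt (Red.gmFn (τ ≫ chr D (D.P.root (e k))) * Red.gaFn (z ≫ proj n k)), ?_⟩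
  rw [comp_prodMap, comp_prodMap]
  refine mul_prodPts _ fun k => ?_
  rw [← Category.assoc, P_eq, ← Category.assoc _ (proj n k), tuple_proj, isRootPts D (e k) τ]
  rfl

variable {n m : ℕ} {e : Fin n → D.idx} {e' : Fin m → D.idx}

/-- Conjugation by the torus of a point of the cell. -/
theorem exists_conj_cell {X : Over S} (τ : X ⟶ D.T)
    (z : X ⟶ RedSub.pow (Red.Ga S) n ⊗ (D.T ⊗ RedSub.pow (Red.Ga S) m)) :
    ∃ z' : X ⟶ RedSub.pow (Red.Ga S) n ⊗ (D.T ⊗ RedSub.pow (Red.Ga S) m),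
      (τ ≫ D.i) * (z ≫ RedSub.cellMap D e e') = (z' ≫ RedSub.cellMap D e e') * (τ ≫ D.i) := by
  obtain ⟨y, hy⟩ := exists_conj_prod e τ (z ≫ fst _ _)
  obtain ⟨x, hx⟩ := exists_conj_prod e' τ (z ≫ snd _ _ ≫ snd _ _)
  refine ⟨lift y (lift (z ≫ snd _ _ ≫ fst _ _) x), ?_⟩
  refine (congrArg ((τ ≫ D.i) * ·) (comp_cellMap e' z)).trans ?_
  refine Eq.trans ?_ (congrArg (· * (τ ≫ D.i)) (comp_cellMap e' _)).symm
  rw [lift_fst, lift_snd_assoc, lift_fst, lift_snd_assoc, lift_snd]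
  have hc : (τ ≫ D.i) * ((z ≫ snd _ _ ≫ fst _ _) ≫ D.i) = ((z ≫ snd _ _ ≫ fst _ _) ≫ D.i) * (τ ≫ D.i) := by
    rw [← MonObj.mul_comp, ← MonObj.mul_comp, torus_comm D]
  rw [← _root_.mul_assoc, hy, _root_.mul_assoc, ← _root_.mul_assoc (τ ≫ D.i), hc, _root_.mul_assoc, hx,
    ← _root_.mul_assoc, ← _root_.mul_assoc, ← _root_.mul_assoc]

theorem exists_conj_cell' {X : Over S} (τ : X ⟶ D.T)
    (z : X ⟶ RedSub.pow (Red.Ga S) n ⊗ (D.T ⊗ RedSub.pow (Red.Ga S) m)) :
    ∃ z' : X ⟶ RedSub.pow (Red.Ga S) n ⊗ (D.T ⊗ RedSub.pow (Red.Ga S) m),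
      (τ ≫ D.i)⁻¹ * (z ≫ RedSub.cellMap D e e') * (τ ≫ D.i) = z' ≫ RedSub.cellMap D e e' := by
  obtain ⟨z', hz'⟩ := exists_conj_cell (e := e) (e' := e') τ⁻¹ z
  refine ⟨z', ?_⟩
  rw [← GrpObj.inv_comp, hz', GrpObj.inv_comp, inv_mul_cancel_right]

/-- A point whose image lies in the range of an open immersion factors through it. -/
theorem exists_factor {X W : Over S} (f : W ⟶ G) [IsOpenImmersion f.left] (g : X ⟶ G)
    (h : Set.range g.left ⊆ Set.range f.left) : ∃ z : X ⟶ W, z ≫ f = g :=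
  ⟨Over.homMk (IsOpenImmersion.lift f.left g.left h) (by
      rw [← Over.w f, IsOpenImmersion.lift_fac_assoc, Over.w g]),
    Over.OverMorphism.ext (IsOpenImmersion.lift_fac _ _ _)⟩

/-- The trivial point of the cell. -/
theorem exists_one (X : Over S) : ∃ z : X ⟶ RedSub.pow (Red.Ga S) n ⊗ (D.T ⊗ RedSub.pow (Red.Ga S) m),
    z ≫ RedSub.cellMap D e e' = 1 := by
  have h1 : ∀ {k : ℕ} (d : Fin k → D.idx),
      tuple k (fun _ => Ga.gaPt (0 : Γ(X.left, ⊤))) ≫ RedSub.prodMap (Red.Ga S) k (fun j => D.u (d j)) = 1 := by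
    intro k d
    rw [comp_prodMap]
    induction k with
    | zero => rfl
    | succ k ih =>
      rw [prodPts_succ, ← Category.assoc, tuple_proj]
      refine (congrArg₂ (· * ·) (P_zero (D.u (d 0)) (X := X)) ?_).trans (_root_.one_mul _)
      refine Eq.trans ?_ (ih (fun j => d j.succ))
      refine congrArg _ (funext fun j => ?_)
      rw [← Category.assoc, ← Category.assoc, tuple_proj, tuple_proj]
  refine ⟨lift (tuple n fun _ => Ga.gaPt 0) (lift 1 (tuple m fun _ => Ga.gaPt 0)), ?_⟩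
  refine (comp_cellMap e' _).trans ?_
  rw [lift_fst, lift_snd_assoc, lift_fst, lift_snd_assoc, lift_snd, h1, h1, MonObj.one_comp, _root_.one_mul,
    _root_.one_mul]

/-- A field-valued point with trivial limit for a cocharacter of the torus lies in the cell. -/
theorem mem_range_of_isLimPt [IsOpenImmersion (RedSub.cellMap D e e').left] {ν : Red.Gm S ⟶ D.T} {Y : Over S}
    [IsAffine Y.left] (hY : IsField Γ(Y.left, ⊤)) [Subsingleton Y.left] {g : Y ⟶ G}
    (hg : IsLimPt (ν ≫ D.i) g 1) : ∃ z, z ≫ RedSub.cellMap D e e' = g := by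
  refine exists_factor _ g ?_
  obtain ⟨h, hh, h0⟩ := hg Y (𝟙 Y) inferInstance
  rw [Category.id_comp] at hh h0
  haveI : IsDomain Γ(Y.left, ⊤) := hY.isDomain
  let V : (poly Y).left.Opens := h.left ⁻¹ᵁ (RedSub.cellMap D e e').left.opensRange
  let ξ : PrimeSpectrum (Polynomial Γ(Y.left, ⊤)) := ⟨⊥, Ideal.bot_prime⟩
  haveI : IsDomain (LaurentPolynomial Γ(Y.left, ⊤)) :=
    IsLocalization.isDomain_of_le_nonZeroDivisors (M := Submonoid.powers (Polynomial.X : Polynomial Γ(Y.left, ⊤))) (LaurentPolynomial Γ(Y.left, ⊤))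
      (powers_le_nonZeroDivisors_of_noZeroDivisors Polynomial.X_ne_zero)
  let ξ' : (laur Y).left := (⟨⊥, Ideal.bot_prime⟩ : PrimeSpectrum (LaurentPolynomial Γ(Y.left, ⊤)))
  have hξ' : (toPoly Y).left ξ' = ξ := by
    refine PrimeSpectrum.ext ?_
    exact (RingHom.injective_iff_ker_eq_bot (Polynomial.toLaurent (R := Γ(Y.left, ⊤)) : Polynomial Γ(Y.left, ⊤) →+* LaurentPolynomial Γ(Y.left, ⊤))).1 Polynomial.toLaurent_injective
  obtain ⟨y₀⟩ : Nonempty Y.left := by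
    haveI : Nontrivial Γ(Y.left, ⊤) := inferInstance
    exact ⟨Y.left.isoSpec.inv (Classical.arbitrary (PrimeSpectrum Γ(Y.left, ⊤)))⟩
  have hz0 : (zeroSec Y).left y₀ ∈ V := by
    obtain ⟨z, hz⟩ := exists_one (D := D) (e := e) (e' := e') Y
    change h.left ((zeroSec Y).left y₀) ∈ Set.range (RedSub.cellMap D e e').left
    rw [← Scheme.Hom.comp_apply, ← Over.comp_left, h0, ← hz, Over.comp_left, Scheme.Hom.comp_apply]
    exact ⟨_, rfl⟩
  have hξ : ξ ∈ (V : Set (poly Y).left) :=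
    ((PrimeSpectrum.le_iff_specializes ξ ((zeroSec Y).left y₀ : PrimeSpectrum _)).1 bot_le).mem_open V.2 hz0
  let q := ptHom (laur Y) ξ'
  have hsub : Set.range (q ≫ conjPt (ν ≫ D.i) g).left ⊆ Set.range (RedSub.cellMap D e e').left := by
    rintro _ ⟨p, rfl⟩
    rw [← hh, Over.comp_left, Over.comp_left, Scheme.Hom.comp_apply, Scheme.Hom.comp_apply]
    have : q.left p = ξ' := by
      have h1 : q.left p ∈ Set.range ((laur Y).left.fromSpecResidueField ξ') := ⟨p, rfl⟩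
      rwa [Scheme.range_fromSpecResidueField] at h1
    rw [this, hξ']
    exact hξ
  obtain ⟨z, hz⟩ := exists_factor _ _ hsub
  obtain ⟨z', hz'⟩ := exists_conj_cell' (e := e) (e' := e') (q ≫ Gm.gmPt (sU Y) ≫ ν) z
  have hg' : q ≫ laurHom Y ≫ g = z' ≫ RedSub.cellMap D e e' := by
    rw [← hz', hz, conjPt, MonObj.comp_mul, MonObj.comp_mul, GrpObj.comp_inv, cs_eq, Category.assoc q]
    group
  rintro _ ⟨p, rfl⟩
  let p₀ : (ptObj (laur Y) ξ').left := IsLocalRing.closedPoint _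
  rw [show p = (laurHom Y).left (q.left p₀) from Subsingleton.elim _ _, ← Scheme.Hom.comp_apply,
    ← Scheme.Hom.comp_apply]
  change (q ≫ laurHom Y ≫ g).left p₀ ∈ _
  rw [hg', Over.comp_left, Scheme.Hom.comp_apply]
  exact ⟨_, rfl⟩

variable {l : D.M →+ ℤ}

/-- The image of the cell does not depend on the orderings. -/
theorem range_cellMap_le {n' m' : ℕ} {d : Fin n' → D.idx} {d' : Fin m' → D.idx}
    (he : ∀ k, l (D.P.root (e k)) < 0) (he' : ∀ k, 0 < l (D.P.root (e' k)))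
    (hd : ∀ k, l (D.P.root (d k)) < 0) (hd' : ∀ k, 0 < l (D.P.root (d' k)))
    [IsOpenImmersion (RedSub.cellMap D d d').left] :
    Set.range (RedSub.cellMap D e e').left ⊆ Set.range (RedSub.cellMap D d d').left := by
  haveI := isAffineHom D
  rintro _ ⟨p, rfl⟩
  let W := RedSub.pow (Red.Ga S) n ⊗ (D.T ⊗ RedSub.pow (Red.Ga S) m)
  let Y := ptObj W p
  let z : Y ⟶ W := ptHom W p
  haveI : Subsingleton Y.left := inferInstanceAs (Subsingleton (PrimeSpectrum (W.left.residueField p)))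
  have hf := isField_ptObj W p
  have hneg : ∃ z₁, z₁ ≫ RedSub.cellMap D d d' = (z ≫ fst _ _) ≫ RedSub.prodMap (Red.Ga S) n fun k => D.u (e k) := by
    have hl := isLimPt_neg he (z ≫ fst _ _)
    rw [show (gcochar D l)⁻¹ = (cochar D l)⁻¹ ≫ D.i from (GrpObj.inv_comp (cochar D l) D.i).symm] at hl
    exact mem_range_of_isLimPt hf hl
  obtain ⟨z₁, hz₁⟩ := hneg
  obtain ⟨z₂, hz₂⟩ := mem_range_of_isLimPt (e := d) (e' := d') hf (isLimPt_pos he' (z ≫ snd _ _ ≫ snd _ _))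
  have hz₁' := (comp_cellMap d' z₁).symm.trans hz₁
  have hz₂' := (comp_cellMap d' z₂).symm.trans hz₂
  have h1 := factors_unique (c := gcochar D l) (y' := (z ≫ fst _ _) ≫ RedSub.prodMap (Red.Ga S) n fun k => D.u (e k))
    (t' := 1) (x' := 1) (isLimPt_neg hd _) (isLimPt_neg he _) (isLimPt_torus_pt (l := l) _) isLimPt_one
    (isLimPt_pos hd' _) isLimPt_one (hz₁'.trans (by rw [_root_.mul_one, _root_.mul_one]))
  have h2 := factors_unique (c := gcochar D l) (y' := 1) (t' := 1)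
    (x' := (z ≫ snd _ _ ≫ snd _ _) ≫ RedSub.prodMap (Red.Ga S) m fun k => D.u (e' k))
    (isLimPt_neg hd _) isLimPt_one (isLimPt_torus_pt (l := l) _) isLimPt_one
    (isLimPt_pos hd' _) (isLimPt_pos he' _) (hz₂'.trans (by rw [_root_.one_mul, _root_.one_mul]))
  have key : lift (z₁ ≫ fst _ _) (lift (z ≫ snd _ _ ≫ fst _ _) (z₂ ≫ snd _ _ ≫ snd _ _)) ≫
      RedSub.cellMap D d d' = z ≫ RedSub.cellMap D e e' := by
    refine ((comp_cellMap d' _).trans ?_).trans (comp_cellMap e' z).symm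
    rw [lift_fst, lift_snd_assoc, lift_fst, lift_snd_assoc, lift_snd, h1.1, h2.2.2]
  let p₀ : Y.left := IsLocalRing.closedPoint _
  have hp : z.left p₀ = p := by
    have h1 : z.left p₀ ∈ Set.range (W.left.fromSpecResidueField p) := ⟨p₀, rfl⟩
    rwa [Scheme.range_fromSpecResidueField] at h1
  refine ⟨(lift (z₁ ≫ fst _ _) (lift (z ≫ snd _ _ ≫ fst _ _) (z₂ ≫ snd _ _ ≫ snd _ _))).left p₀, ?_⟩
  rw [← hp, ← Scheme.Hom.comp_apply, ← Scheme.Hom.comp_apply]
  exact congrArg (fun f => f.left p₀) key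

end Groth.Agent.H82.Contract
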