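import Groth.Agent.H82.Contract.Lim
import Groth.Prelude.Def_RedSub

/-!
# Root homomorphisms and cocharacters
-/

set_option autoImplicit false
set_option linter.style.haveILetI false
set_option linter.unusedSectionVars false
universe u

open CategoryTheory MonoidalCategory CartesianMonoidalCategory MonObj GrpObj AlgebraicGeometry
open Groth.Agent.Lib.RedPts Groth.Agent.H82.BigCell
open Groth.Agent.H82.RankOne (P P_eq P_add P_zero P_neg P_comp gmPt_comp gmPt_eq)

namespace Groth.Agent.H82.Contract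

variable {S : Scheme.{u}} {G T : Over S} [GrpObj G] [GrpObj T]

/-- The ordered product of finitely many points. -/
noncomputable def prodPts {Y : Over S} : (n : ℕ) → (Fin n → (Y ⟶ G)) → (Y ⟶ G)
  | 0, _ => 1
  | n + 1, a => a 0 * prodPts n fun k => a k.succ

@[simp] theorem prodPts_zero {Y : Over S} (a : Fin 0 → (Y ⟶ G)) : prodPts 0 a = 1 := rfl

theorem prodPts_succ {Y : Over S} {n : ℕ} (a : Fin (n + 1) → (Y ⟶ G)) :
    prodPts (n + 1) a = a 0 * prodPts n fun k => a k.succ := rfl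

theorem comp_prodPts {Y Y' : Over S} (c : Y' ⟶ Y) {n : ℕ} (a : Fin n → (Y ⟶ G)) :
    c ≫ prodPts n a = prodPts n fun k => c ≫ a k := by
  induction n with
  | zero => simp
  | succ n ih => rw [prodPts_succ, prodPts_succ, MonObj.comp_mul, ih]

theorem prodPts_comp_hom {Y : Over S} {K : Over S} [GrpObj K] (f : G ⟶ K) [IsMonHom f] {n : ℕ}
    (a : Fin n → (Y ⟶ G)) : prodPts n a ≫ f = prodPts n fun k => a k ≫ f := by
  induction n with
  | zero => simp [MonObj.one_comp]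
  | succ n ih => rw [prodPts_succ, prodPts_succ, MonObj.mul_comp _ _ f, ih]

theorem mul_prodPts {Y : Over S} (t : Y ⟶ G) {n : ℕ} {a b : Fin n → (Y ⟶ G)}
    (h : ∀ k, t * a k = b k * t) : t * prodPts n a = prodPts n b * t := by
  induction n with
  | zero => simp
  | succ n ih =>
    rw [prodPts_succ, prodPts_succ, ← _root_.mul_assoc, h 0, _root_.mul_assoc, ih fun k => h k.succ,
      ← _root_.mul_assoc]

/-- The coordinates of a point of a power. -/
noncomputable def proj {W : Over S} : (n : ℕ) → Fin n → (RedSub.pow W n ⟶ W)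
  | 0 => Fin.elim0
  | n + 1 => Fin.cases (fst W (RedSub.pow W n)) fun k => snd W (RedSub.pow W n) ≫ proj n k

theorem proj_zero {W : Over S} {n : ℕ} :
    proj (W := W) (n + 1) 0 = fst W (RedSub.pow W n) := rfl

theorem proj_succ {W : Over S} {n : ℕ} (k : Fin n) :
    proj (W := W) (n + 1) k.succ = snd W (RedSub.pow W n) ≫ proj n k := rfl

theorem pow_ext {W X : Over S} : ∀ {n : ℕ} {z z' : X ⟶ RedSub.pow W n},
    (∀ k, z ≫ proj n k = z' ≫ proj n k) → z = z'
  | 0, _, _, _ => toUnit_unique _ _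
  | n + 1, z, z', h => by
    apply CartesianMonoidalCategory.hom_ext
    · exact h 0
    · exact pow_ext fun k => (Category.assoc _ _ _).trans ((h k.succ).trans (Category.assoc _ _ _).symm)

/-- A point of a power with prescribed coordinates. -/
noncomputable def tuple {W X : Over S} : (n : ℕ) → (Fin n → (X ⟶ W)) → (X ⟶ RedSub.pow W n)
  | 0, _ => toUnit X
  | n + 1, a => CartesianMonoidalCategory.lift (a 0) (tuple n fun k => a k.succ)

theorem tuple_proj {W X : Over S} : ∀ {n : ℕ} (a : Fin n → (X ⟶ W)) (k : Fin n), tuple n a ≫ proj n k = a k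
  | 0, _, k => k.elim0
  | n + 1, a, k => by
    refine Fin.cases ?_ (fun j => ?_) k
    · exact lift_fst (C := Over S) (a 0) (tuple n fun k => a k.succ)
    · exact (Category.assoc _ _ _).symm.trans ((congrArg (· ≫ proj n j) (lift_snd _ _)).trans
        (tuple_proj (fun k => a k.succ) j))

theorem comp_prodMap {W X : Over S} : ∀ {n : ℕ} (f : Fin n → (W ⟶ G)) (z : X ⟶ RedSub.pow W n),
    z ≫ RedSub.prodMap W n f = prodPts n fun k => z ≫ proj n k ≫ f k
  | 0, f, z => by simp [RedSub.prodMap, MonObj.comp_one]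
  | n + 1, f, z => by
    refine (MonObj.comp_mul _ _ _).trans ?_
    rw [prodPts_succ]
    refine congrArg₂ (· * ·) rfl ?_
    refine ((Category.assoc _ _ _).symm.trans (comp_prodMap (fun k => f k.succ) (z ≫ snd W (RedSub.pow W n)))).trans ?_
    refine congrArg _ (funext fun k => ?_)
    exact (Category.assoc _ _ _).trans (congrArg (z ≫ ·) (Category.assoc _ _ _).symm)

/-- `u` is normalised by `T` with multiplier `α`. -/
def IsRootPts (i : T ⟶ G) (α : T ⟶ Red.Gm S) (u : Red.Ga S ⟶ G) : Prop :=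
  ∀ {X : Over S} (t : X ⟶ T) (a : Γ(X.left, ⊤)),
    (t ≫ i) * P u a = P u (Red.gmFn (t ≫ α) * a) * (t ≫ i)

theorem isRootPts_of_isRootHom {i : T ⟶ G} {α : T ⟶ Red.Gm S} {u : Red.Ga S ⟶ G}
    (h : Red.IsRootHom i α u) : IsRootPts i α u := fun {X} t a => by
  obtain ⟨x', h1, h2⟩ := h.2.2 X t (Ga.gaPt a)
  rw [Ga.gaFn_gaPt] at h2
  rw [P_eq, h2, P_eq, Ga.gaFn_gaPt] at h1
  rw [h1, inv_mul_cancel_right]

/-- The cocharacter `ν` has weight `d` on `α`. -/
def HasDeg (ν : Red.Gm S ⟶ T) (α : T ⟶ Red.Gm S) (d : ℤ) : Prop :=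
  ∀ {X : Over S} (s : Γ(X.left, ⊤)ˣ), Red.gmFn ((Gm.gmPt s ≫ ν) ≫ α) = ((s ^ d : Γ(X.left, ⊤)ˣ) : Γ(X.left, ⊤))

theorem HasDeg.inv {ν : Red.Gm S ⟶ T} [IsMonHom ν] {α : T ⟶ Red.Gm S} [IsMonHom α] {d : ℤ}
    (h : HasDeg ν α d) : HasDeg ν⁻¹ α (-d) := fun {X} s => by
  have e : Gm.gmPt s ≫ ν⁻¹ = Gm.gmPt s⁻¹ ≫ ν := by
    rw [GrpObj.comp_inv, RankOne.gmPt_inv, GrpObj.inv_comp _ ν]
  rw [e, h, inv_zpow', ]

variable {i : T ⟶ G} [IsMonHom i] {ν : Red.Gm S ⟶ T} {α : T ⟶ Red.Gm S} {u : Red.Ga S ⟶ G} [IsMonHom u]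

theorem cs_eq (Y : Over S) [IsAffine Y.left] : cs (ν ≫ i) Y = (Gm.gmPt (sU Y) ≫ ν) ≫ i :=
  (Category.assoc _ _ _).symm

/-- Root homomorphisms of positive degree are contracted. -/
theorem isLimPt_root (h : IsRootPts i α u) {d : ℕ} (hd : 0 < d) (hdeg : HasDeg ν α (d : ℤ))
    {X : Over S} (a : Γ(X.left, ⊤)) : IsLimPt (ν ≫ i) (P u a) 1 := fun Y f hY => by
  let C₁ : Γ(Y.left, ⊤) →+* Polynomial Γ(Y.left, ⊤) := Polynomial.C
  let m : Γ((poly Y).left, ⊤) := fn Y C₁ (Polynomial.X ^ d)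
  let a₁ : Γ((poly Y).left, ⊤) := (polyHom Y).left.appTop (f.left.appTop a)
  have hm : (toPoly Y).left.appTop m = ((sU Y ^ d : Γ((laur Y).left, ⊤)ˣ) : Γ((laur Y).left, ⊤)) := by
    refine (toPoly_fn Y (Polynomial.X ^ d)).trans ?_
    rw [map_pow, Polynomial.toLaurent_X, map_pow, Units.val_pow_eq_pow_val, sU_val]
  have ha : (toPoly Y).left.appTop a₁ = (laurHom Y).left.appTop (f.left.appTop a) := by
    change (((polyHom Y).left.appTop ≫ (toPoly Y).left.appTop) (f.left.appTop a)) = _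
    rw [← Scheme.Hom.comp_appTop, ← Over.comp_left, toPoly_polyHom]
  have hz : (zeroSec Y).left.appTop m = 0 := by
    refine (zeroSec_fn Y (Polynomial.X ^ d)).trans ?_
    rw [Polynomial.eval_pow, Polynomial.eval_X, zero_pow hd.ne']
  have hdg : Red.gmFn ((Gm.gmPt (sU Y) ≫ ν) ≫ α) = ((sU Y ^ d : Γ((laur Y).left, ⊤)ˣ) : Γ((laur Y).left, ⊤)) := by
    rw [hdeg, zpow_natCast]
  refine ⟨P u (m * a₁), ?_, ?_⟩
  · rw [conjPt, cs_eq, P_comp u f, P_comp u (laurHom Y), h, mul_inv_cancel_right, P_comp u (toPoly Y), map_mul,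
      hm, ha, hdg]
  · rw [P_comp u (zeroSec Y), map_mul, hz, zero_mul, P_zero, MonObj.comp_one]

theorem isLimPt_prodPts {c : Red.Gm S ⟶ G} {X : Over S} {n : ℕ} {a : Fin n → (X ⟶ G)}
    (h : ∀ k, IsLimPt c (a k) 1) : IsLimPt c (prodPts n a) 1 := by
  induction n with
  | zero => exact isLimPt_one
  | succ n ih =>
    have := (h 0).mul (ih fun k => h k.succ)
    rwa [_root_.one_mul] at this

theorem isLimPt_torus (hcomm : ∀ {X : Over S} (a b : X ⟶ T), a * b = b * a) {X : Over S} (t : X ⟶ T) :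
    IsLimPt (ν ≫ i) (t ≫ i) (t ≫ i) :=
  isLimPt_of_commute _ fun Y f z => by
    rw [← Category.assoc z, ← Category.assoc f, ← MonObj.mul_comp, ← MonObj.mul_comp, hcomm]

end Groth.Agent.H82.Contract
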