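import Groth.Agent.H82.Contract.Closed
import Groth.Agent.Lib.RedPts.Gm
import Groth.Agent.Lib.Tori.BaseChange
import Mathlib.RingTheory.Localization.Module

/-!
# Split groups

Cocharacters of the split torus, separation of roots, regular cocharacters positive on a base.
-/

set_option autoImplicit false
set_option linter.style.haveILetI false
set_option linter.unusedSectionVars false
universe u

open CategoryTheory MonoidalCategory CartesianMonoidalCategory MonObj GrpObj AlgebraicGeometry
open Groth.Agent.Lib.RedPts Groth.Agent.H82.BigCell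

namespace Groth.Agent.H82.Contract

/-- A functional which is `1`-positive on a linearly independent family of a lattice. -/
theorem exists_positive {M : Type} [AddCommGroup M] [Module.Finite ℤ M] [Module.Free ℤ M] {κ : Type}
    (v : κ → M) (hv : LinearIndependent ℤ v) : ∃ l : M →ₗ[ℤ] ℤ, ∀ i, 0 < l (v i) := by
  classical
  let B := Module.Free.chooseBasis ℤ M
  let f : M →ₗ[ℤ] (Module.Free.ChooseBasisIndex ℤ M → ℚ) :=
    LinearMap.pi fun j => (Algebra.linearMap ℤ ℚ).comp (B.coord j)
  have hf : Function.Injective f := fun x y h => B.ext_elem fun j => Int.cast_injective (congrFun h j)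
  have hv' : LinearIndependent ℚ (f ∘ v) :=
    (LinearIndependent.iff_fractionRing ℤ ℚ).1 (hv.map' f (LinearMap.ker_eq_bot.2 hf))
  obtain ⟨ψ, hψ⟩ := LinearMap.exists_extend ((Finsupp.linearCombination ℚ fun _ : κ => (1 : ℚ)).comp hv'.repr)
  have h1 : ∀ i, ψ (f (v i)) = 1 := fun i => by
    have := LinearMap.congr_fun hψ ⟨f (v i), Submodule.subset_span ⟨i, rfl⟩⟩
    simp only [LinearMap.comp_apply, Submodule.subtype_apply] at this
    rw [this]
    change Finsupp.linearCombination ℚ (fun _ : κ => (1 : ℚ)) (hv'.repr ⟨(f ∘ v) i, _⟩) = 1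
    rw [hv'.repr_eq_single i _ rfl]
    simp
  let e : Module.Free.ChooseBasisIndex ℤ M → ℚ := fun j => ψ (fun k => if k = j then 1 else 0)
  let N : ℕ := ∏ j, (e j).den
  have hN : 0 < N := Finset.prod_pos fun j _ => (e j).den_pos
  have hc : ∀ j, ∃ c : ℤ, (c : ℚ) = (N : ℚ) * e j := fun j => by
    obtain ⟨q, hq⟩ : (e j).den ∣ N := Finset.dvd_prod_of_mem (fun j => (e j).den) (Finset.mem_univ j)
    refine ⟨q * (e j).num, ?_⟩
    rw [hq, Nat.cast_mul, Int.cast_mul, Int.cast_natCast, mul_comm ((e j).den : ℚ), _root_.mul_assoc,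
      Rat.den_mul_eq_num]
  choose c hc using hc
  refine ⟨∑ j, c j • B.coord j, fun i => ?_⟩
  have key : (((∑ j, c j • B.coord j) (v i) : ℤ) : ℚ) = N * ψ (f (v i)) := by
    rw [LinearMap.pi_apply_eq_sum_univ ψ (f (v i)), Finset.mul_sum]
    simp only [LinearMap.coe_sum, Finset.sum_apply, LinearMap.smul_apply, smul_eq_mul, Int.cast_sum, Int.cast_mul,
      hc]
    refine Finset.sum_congr rfl fun j _ => ?_
    have e1 : f (v i) j = ((B.coord j (v i) : ℤ) : ℚ) := rfl
    rw [e1]
    simp only [e, eq_comm]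
    ring
  rw [h1, _root_.mul_one] at key
  exact_mod_cast key.symm ▸ (Nat.cast_pos.2 hN : (0 : ℚ) < N)

variable {S : Scheme.{u}} {G : Over S} [GrpObj G] (D : Red.SplitRed G)

instance isMonHom_i : IsMonHom D.i := D.maximalTorus.1

instance mono_i : Mono D.i := D.maximalTorus.2.1

instance isMonHom_u (a : D.idx) : IsMonHom (D.u a) := (D.rootHom a).1

instance mono_u (a : D.idx) : Mono (D.u a) :=
  haveI := (D.rootHom a).2.1
  haveI : Mono ((Over.forget S).map (D.u a)) := inferInstanceAs (Mono (D.u a).left)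
  (Over.forget S).mono_of_mono_map this

include D in
theorem isAffineHom : IsAffineHom G.hom := D.reductive.1

/-- The character of the torus given by an element of the lattice. -/
noncomputable abbrev chr (m : D.M) : D.T ⟶ Red.Gm S := D.split.hom.hom.hom ≫ Red.chi S m

instance isMonHom_split_hom : IsMonHom (show D.T ⟶ Red.DS S D.M from D.split.hom.hom.hom) :=
  D.split.hom.hom.isMonHom_hom

instance isMonHom_split_inv : IsMonHom D.split.inv.hom.hom := D.split.inv.hom.isMonHom_hom

theorem isRootPts (a : D.idx) : IsRootPts D.i (chr D (D.P.root a)) (D.u a) :=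
  isRootPts_of_isRootHom (D.rootHom a)

theorem split_inv_hom : D.split.inv.hom.hom ≫ D.split.hom.hom.hom = 𝟙 _ :=
  congrArg (fun f => f.hom.hom) D.split.inv_hom_id

theorem split_hom_inv : D.split.hom.hom.hom ≫ D.split.inv.hom.hom = 𝟙 _ :=
  congrArg (fun f => f.hom.hom) D.split.hom_inv_id

theorem torus_comm {X : Over S} (a b : X ⟶ D.T) : a * b = b * a := by
  have key : ∀ z : X ⟶ D.T, z = (z ≫ D.split.hom.hom.hom) ≫ D.split.inv.hom.hom := fun z => by
    rw [Category.assoc, split_hom_inv, Category.comp_id]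
  let e : D.T ⟶ Red.DS S D.M := D.split.hom.hom.hom
  haveI : IsMonHom e := D.split.hom.hom.isMonHom_hom
  have h : (a * b) ≫ e = (b * a) ≫ e := by
    rw [MonObj.mul_comp _ _ e, MonObj.mul_comp _ _ e, mul_comm (a ≫ e)]
  exact (key (a * b)).trans ((congrArg (· ≫ D.split.inv.hom.hom) h).trans (key (b * a)).symm)

/-- The cocharacter given by a functional on the lattice. -/
noncomputable def cochar (l : D.M →+ ℤ) : Red.Gm S ⟶ D.T := Red.DSmap S l ≫ D.split.inv.hom.hom

instance isMonHom_cochar (l : D.M →+ ℤ) : IsMonHom (cochar D l) := by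
  unfold cochar
  infer_instance

theorem gmFn_cochar (l : D.M →+ ℤ) (m : D.M) {X : Over S} (s : Γ(X.left, ⊤)ˣ) :
    Red.gmFn ((Gm.gmPt s ≫ cochar D l) ≫ chr D m) = ((s ^ l m : Γ(X.left, ⊤)ˣ) : Γ(X.left, ⊤)) := by
  have e : (Gm.gmPt s ≫ cochar D l) ≫ chr D m = (Gm.gmPt s ≫ Red.DSmap S l) ≫ Red.chi S m := by
    simp only [cochar, chr, Category.assoc]
    rw [← Category.assoc D.split.inv.hom.hom, split_inv_hom, Category.id_comp]
  rw [e, Gm.gmFn_chi, Gm.dsFn_DSmap]
  let φ : Multiplicative ℤ →* Γ(X.left, ⊤) :=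
    { toFun := fun z => Gm.dsFn (Gm.gmPt s) (Multiplicative.toAdd z)
      map_one' := Gm.dsFn_zero _
      map_mul' := fun a b => Gm.dsFn_add _ _ _ }
  have hφ : φ = (Units.coeHom Γ(X.left, ⊤)).comp (zpowersHom _ s) := by
    refine MonoidHom.ext_mint ?_
    change Gm.dsFn (Gm.gmPt s) 1 = _
    rw [← Gm.gmFn_eq]
    simp
  exact DFunLike.congr_fun hφ (Multiplicative.ofAdd (l m))

theorem hasDeg (l : D.M →+ ℤ) (m : D.M) : HasDeg (cochar D l) (chr D m) (l m) := fun {X} s => gmFn_cochar D l m s

theorem separated {n : ℕ} (e : Fin n → D.idx) (he : Function.Injective e) :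
    Separated fun k => chr D (D.P.root (e k)) := by
  intro Y hY
  let R := Γ(Y.left, ⊤)
  let φ : Γ(Y.left, ⊤) →+* AddMonoidAlgebra Γ(Y.left, ⊤) D.M := AddMonoidAlgebra.singleZeroRingHom
  let χ : Multiplicative D.M →* Γ((BigCell.ext Y φ).left, ⊤) :=
    (fn Y φ).toRingHom.toMonoidHom.comp (AddMonoidAlgebra.of Γ(Y.left, ⊤) D.M)
  refine ⟨BigCell.ext Y φ, inferInstance, extHom Y φ, Gm.dsPt χ ≫ D.split.inv.hom.hom, fun r hr k => ?_⟩
  have hterm : ∀ j, Red.gmFn ((Gm.dsPt χ ≫ D.split.inv.hom.hom) ≫ chr D (D.P.root (e j))) *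
      (extHom Y φ).left.appTop (r j) = fn Y φ (AddMonoidAlgebra.single (D.P.root (e j)) (r j)) := fun j => by
    rw [Category.assoc, chr, ← Category.assoc D.split.inv.hom.hom, split_inv_hom, Category.id_comp, Gm.gmFn_chi,
      Gm.dsFn_dsPt, extHom_fn]
    change fn Y φ (AddMonoidAlgebra.single (D.P.root (e j)) 1) * fn Y φ (φ (r j)) = _
    rw [← map_mul]
    refine congrArg _ ?_
    simp [φ, AddMonoidAlgebra.singleZeroRingHom, AddMonoidAlgebra.single_mul_single]
  rw [Finset.sum_congr rfl fun j _ => hterm j, ← map_sum] at hr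
  have h2 := congrArg (fun p => p.coeff (D.P.root (e k))) ((fn Y φ).injective (hr.trans (map_zero _).symm))
  simp only [AddMonoidAlgebra.coeff_sum, Finsupp.coe_finsetSum, Finset.sum_apply, AddMonoidAlgebra.coeff_single,
    AddMonoidAlgebra.coeff_zero, Finsupp.coe_zero, Pi.zero_apply] at h2
  rw [Finset.sum_eq_single k (fun j _ hjk => Finsupp.single_eq_of_ne (fun h => hjk (he (D.P.root.injective h.symm))))
    (fun h => absurd (Finset.mem_univ k) h), Finsupp.single_eq_same] at h2
  exact h2

variable {D}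

/-- A functional positive on the positive roots. -/
theorem exists_regular (b : D.P.Base) : ∃ l : D.M →+ ℤ,
    (∀ a ∈ RedSub.posRoots D.P b, 0 < l (D.P.root a)) ∧ ∀ a ∈ RedSub.negRoots D.P b, l (D.P.root a) < 0 := by
  obtain ⟨l, hl⟩ := exists_positive (fun a : b.support => D.P.root a) b.linearIndepOn_root
  have hcl : ∀ m ∈ AddSubmonoid.closure (D.P.root '' (b.support : Set D.idx)), m = 0 ∨ 0 < l m := fun m hm => by
    induction hm using AddSubmonoid.closure_induction with
    | mem x hx =>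
      obtain ⟨a, ha, rfl⟩ := hx
      exact Or.inr (hl ⟨a, ha⟩)
    | zero => exact Or.inl rfl
    | add x y _ _ hx hy =>
      rcases hx with rfl | hx
      · simpa using hy
      · rcases hy with rfl | hy
        · exact Or.inr (by simpa using hx)
        · exact Or.inr (by rw [map_add]; exact add_pos hx hy)
  refine ⟨l.toAddMonoidHom, fun a ha => ?_, fun a ha => ?_⟩
  · exact (hcl _ ha).resolve_left (D.P.ne_zero a)
  · have := (hcl _ ha).resolve_left (neg_ne_zero.2 (D.P.ne_zero a))
    rw [map_neg] at this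
    exact neg_pos.1 this

end Groth.Agent.H82.Contract
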