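import Groth.Agent.H82.Contract.Root
import Mathlib.Algebra.DualNumber

/-!
# Tangent points
-/

set_option autoImplicit false
set_option linter.style.haveILetI false
set_option linter.unusedSectionVars false
universe u

open CategoryTheory MonoidalCategory CartesianMonoidalCategory MonObj GrpObj AlgebraicGeometry
open Groth.Agent.Lib.RedPts Groth.Agent.H82.BigCell
open Groth.Agent.H82.RankOne (P P_eq P_add P_zero P_neg P_comp)

namespace Groth.Agent.H82.Contract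

variable {S : Scheme.{u}}

/-- Base change of a square-zero extension along a ring map. -/
def tszeMap {R R' : Type u} [CommRing R] [CommRing R'] (f : R →+* R') : DualNumber R →+* DualNumber R' where
  toFun x := TrivSqZeroExt.inl (f x.fst) + TrivSqZeroExt.inr (f x.snd)
  map_zero' := by simp
  map_one' := by simp
  map_add' x y := by ext <;> simp
  map_mul' x y := by
    refine TrivSqZeroExt.ext (by simp) ?_
    simp [DualNumber.snd_mul]

@[simp] theorem fst_tszeMap {R R' : Type u} [CommRing R] [CommRing R'] (f : R →+* R') (x : DualNumber R) :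
    (tszeMap f x).fst = f x.fst := by simp [tszeMap]

@[simp] theorem snd_tszeMap {R R' : Type u} [CommRing R] [CommRing R'] (f : R →+* R') (x : DualNumber R) :
    (tszeMap f x).snd = f x.snd := by simp [tszeMap]

variable (Y : Over S) [IsAffine Y.left] (M : Type u) [AddCommGroup M] [Module Γ(Y.left, ⊤) M]
  [Module Γ(Y.left, ⊤)ᵐᵒᵖ M] [IsCentralScalar Γ(Y.left, ⊤) M]

/-- `Y[M]`, the square-zero extension. -/
noncomputable abbrev sq : Over S :=
  ext Y (algebraMap Γ(Y.left, ⊤) (TrivSqZeroExt Γ(Y.left, ⊤) M))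

/-- The projection. -/
noncomputable abbrev sqHom : sq Y M ⟶ Y :=
  extHom Y (algebraMap Γ(Y.left, ⊤) (TrivSqZeroExt Γ(Y.left, ⊤) M))

/-- `Y[ε]`. -/
noncomputable abbrev dual : Over S := sq Y Γ(Y.left, ⊤)

theorem exists_sqZero : ∃ d : Y ⟶ sq Y M, d ≫ sqHom Y M = 𝟙 Y ∧
    ∀ r, d.left.appTop (fn Y _ r) = TrivSqZeroExt.fstHom Γ(Y.left, ⊤) Γ(Y.left, ⊤) M r :=
  exists_toExt _ (𝟙 Y) (TrivSqZeroExt.fstHom Γ(Y.left, ⊤) Γ(Y.left, ⊤) M).toRingHom (by
    refine RingHom.ext fun a => ?_; simp)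

/-- The zero section. -/
noncomputable def sqZero : Y ⟶ sq Y M := (exists_sqZero Y M).choose

@[reassoc (attr := simp)]
theorem sqZero_sqHom : sqZero Y M ≫ sqHom Y M = 𝟙 Y := (exists_sqZero Y M).choose_spec.1

theorem sqZero_fn (r : TrivSqZeroExt Γ(Y.left, ⊤) M) :
    (sqZero Y M).left.appTop (fn Y _ r) = r.fst := (exists_sqZero Y M).choose_spec.2 r

variable {M} {N : Type u} [AddCommGroup N] [Module Γ(Y.left, ⊤) N] [Module Γ(Y.left, ⊤)ᵐᵒᵖ N]
  [IsCentralScalar Γ(Y.left, ⊤) N]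

/-- A linear map of modules gives a morphism of square-zero extensions. -/
noncomputable def sqMap (l : M →ₗ[Γ(Y.left, ⊤)] N) : sq Y N ⟶ sq Y M :=
  extMap _ _ (𝟙 Y) (TrivSqZeroExt.map l).toRingHom (by
    refine RingHom.ext fun a => ?_
    simp [TrivSqZeroExt.algebraMap_eq_inl, TrivSqZeroExt.map_inl])

theorem sqMap_fn (l : M →ₗ[Γ(Y.left, ⊤)] N) (r : TrivSqZeroExt Γ(Y.left, ⊤) M) :
    (sqMap Y l).left.appTop (fn Y _ r) = fn Y _ (TrivSqZeroExt.map l r) :=
  extMap_fn _ _ _ _ _ r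

theorem sqMap_sqHom (l : M →ₗ[Γ(Y.left, ⊤)] N) : sqMap Y l ≫ sqHom Y M = sqHom Y N :=
  (extMap_extHom _ _ _ _ _).trans (Category.comp_id _)

variable {Y} {G : Over S} [GrpObj G] [IsAffineHom G.hom] {U : S.Opens}

/-- The infinitesimal part of the value of a coordinate. -/
noncomputable def tn (hY : Set.range Y.hom ⊆ (U : Set S)) (a : sq Y M ⟶ G)
    (b : Γ((chart G U).left, ⊤)) : M :=
  (cdv (algebraMap Γ(Y.left, ⊤) (TrivSqZeroExt Γ(Y.left, ⊤) M)) hY a b).snd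

/-- A tangent point at the unit. -/
def IsTan (a : sq Y M ⟶ G) : Prop := sqZero Y M ≫ a = 1

theorem fst_of_isTan {hY : Set.range Y.hom ⊆ (U : Set S)} {a : sq Y M ⟶ G} (ha : IsTan a)
    (b : Γ((chart G U).left, ⊤)) :
    (cdv (algebraMap Γ(Y.left, ⊤) (TrivSqZeroExt Γ(Y.left, ⊤) M)) hY a b).fst =
      cd hY (1 : Y ⟶ G) b := by
  rw [← sqZero_fn Y M, ← cd_comp_ext _ hY hY (sqZero Y M) a b, show sqZero Y M ≫ a = 1 from ha]

theorem tan_ext (hU : IsAffineOpen U) {hY : Set.range Y.hom ⊆ (U : Set S)} {a a' : sq Y M ⟶ G}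
    (ha : IsTan a) (ha' : IsTan a') (h : ∀ b, tn hY a b = tn hY a' b) : a = a' :=
  ext_cdv _ hU (hY := hY) fun b =>
    TrivSqZeroExt.ext ((fst_of_isTan (hY := hY) ha b).trans (fst_of_isTan (hY := hY) ha' b).symm) (h b)

theorem isTan_one : IsTan (1 : sq Y M ⟶ G) := MonObj.comp_one _

theorem IsTan.mul {a a' : sq Y M ⟶ G} (ha : IsTan a) (ha' : IsTan a') : IsTan (a * a') := by
  rw [IsTan, MonObj.comp_mul, show sqZero Y M ≫ a = 1 from ha, show sqZero Y M ≫ a' = 1 from ha',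
    _root_.one_mul]

theorem tn_sqMap {hY : Set.range Y.hom ⊆ (U : Set S)} (l : M →ₗ[Γ(Y.left, ⊤)] N) (a : sq Y M ⟶ G)
    (b : Γ((chart G U).left, ⊤)) : tn hY (sqMap Y l ≫ a) b = l (tn hY a b) := by
  rw [tn, sqMap, cdv_extMap _ _ _ _ hY hY a b, tn]
  exact TrivSqZeroExt.snd_map _ _

theorem sqMap_zero_comp {a : sq Y M ⟶ G} (ha : IsTan a) :
    sqMap Y (0 : M →ₗ[Γ(Y.left, ⊤)] N) ≫ a = 1 := by
  have e : sqMap Y (0 : M →ₗ[Γ(Y.left, ⊤)] N) = sqHom Y N ≫ sqZero Y M := by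
    refine hom_ext_fn _ fun x => ?_
    rw [sqMap_fn, Over.comp_left, Scheme.Hom.comp_appTop, CommRingCat.comp_apply, sqZero_fn, extHom_fn]
    congr 1
    refine TrivSqZeroExt.ext ?_ ?_ <;> simp [TrivSqZeroExt.algebraMap_eq_inl]
  rw [e, Category.assoc, show sqZero Y M ≫ a = 1 from ha, MonObj.comp_one]

theorem sqMap_id : sqMap Y (LinearMap.id : M →ₗ[Γ(Y.left, ⊤)] M) = 𝟙 _ := by
  refine hom_ext_fn _ fun x => ?_
  rw [sqMap_fn, TrivSqZeroExt.map_id]
  rfl

theorem sqMap_comp {P : Type u} [AddCommGroup P] [Module Γ(Y.left, ⊤) P] [Module Γ(Y.left, ⊤)ᵐᵒᵖ P]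
    [IsCentralScalar Γ(Y.left, ⊤) P] (l : M →ₗ[Γ(Y.left, ⊤)] N) (l' : N →ₗ[Γ(Y.left, ⊤)] P) :
    sqMap Y l' ≫ sqMap Y l = sqMap Y (l'.comp l) := by
  refine hom_ext_fn _ fun x => ?_
  rw [Over.comp_left, Scheme.Hom.comp_appTop, CommRingCat.comp_apply, sqMap_fn, sqMap_fn, sqMap_fn,
    TrivSqZeroExt.map_comp_map]
  rfl

/-- The infinitesimal part is additive. -/
theorem tn_mul {hY : Set.range Y.hom ⊆ (U : Set S)} {a a' : dual Y ⟶ G} (ha : IsTan a) (ha' : IsTan a')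
    (b : Γ((chart G U).left, ⊤)) : tn hY (a * a') b = tn hY a b + tn hY a' b := by
  let R := Γ(Y.left, ⊤)
  let A := sqMap Y (LinearMap.inl R R R) ≫ a * sqMap Y (LinearMap.inr R R R) ≫ a'
  have h1 : sqMap Y (LinearMap.fst R R R) ≫ A = a := by
    rw [MonObj.comp_mul, ← Category.assoc, ← Category.assoc, sqMap_comp, sqMap_comp, LinearMap.fst_comp_inl,
      LinearMap.fst_comp_inr, sqMap_id, Category.id_comp, sqMap_zero_comp ha', _root_.mul_one]
  have h2 : sqMap Y (LinearMap.snd R R R) ≫ A = a' := by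
    rw [MonObj.comp_mul, ← Category.assoc, ← Category.assoc, sqMap_comp, sqMap_comp, LinearMap.snd_comp_inl,
      LinearMap.snd_comp_inr, sqMap_id, Category.id_comp, sqMap_zero_comp ha, _root_.one_mul]
  have h3 : sqMap Y (LinearMap.fst R R R + LinearMap.snd R R R) ≫ A = a * a' := by
    rw [MonObj.comp_mul, ← Category.assoc, ← Category.assoc, sqMap_comp, sqMap_comp, LinearMap.add_comp,
      LinearMap.add_comp, LinearMap.fst_comp_inl, LinearMap.fst_comp_inr, LinearMap.snd_comp_inl,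
      LinearMap.snd_comp_inr, add_zero, zero_add, sqMap_id, Category.id_comp, Category.id_comp]
  rw [← h3, tn_sqMap, LinearMap.add_apply, ← tn_sqMap, ← tn_sqMap, h1, h2]

theorem tn_one {hY : Set.range Y.hom ⊆ (U : Set S)} (b : Γ((chart G U).left, ⊤)) :
    tn hY (1 : dual Y ⟶ G) b = 0 := by
  have h := tn_mul (hY := hY) (isTan_one (M := Γ(Y.left, ⊤)) (Y := Y) (G := G)) isTan_one b
  rw [_root_.one_mul] at h
  exact left_eq_add.1 h

theorem isTan_prodPts {n : ℕ} {a : Fin n → (dual Y ⟶ G)} (ha : ∀ k, IsTan (a k)) : IsTan (prodPts n a) := by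
  induction n with
  | zero => exact isTan_one
  | succ n ih => exact (ha 0).mul (ih fun k => ha k.succ)

theorem tn_prodPts {hY : Set.range Y.hom ⊆ (U : Set S)} {n : ℕ} {a : Fin n → (dual Y ⟶ G)}
    (ha : ∀ k, IsTan (a k)) (b : Γ((chart G U).left, ⊤)) :
    tn hY (prodPts n a) b = ∑ k, tn hY (a k) b := by
  induction n with
  | zero => simpa using tn_one b
  | succ n ih =>
    rw [prodPts_succ, tn_mul (ha 0) (isTan_prodPts fun k => ha k.succ), ih (fun k => ha k.succ),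
      Fin.sum_univ_succ]

/-- `ε` scaled. -/
noncomputable def epsX (x : Γ(Y.left, ⊤)) : Γ((dual Y).left, ⊤) :=
  fn Y (algebraMap Γ(Y.left, ⊤) (DualNumber Γ(Y.left, ⊤))) (TrivSqZeroExt.inr x)

theorem isTan_P_epsX (u : Red.Ga S ⟶ G) [IsMonHom u] (x : Γ(Y.left, ⊤)) : IsTan (P u (epsX x)) := by
  rw [IsTan, P_comp, epsX]
  erw [sqZero_fn]
  rw [TrivSqZeroExt.fst_inr]
  exact P_zero u

theorem sqMap_smul_epsX (u : Red.Ga S ⟶ G) (w x : Γ(Y.left, ⊤)) :
    sqMap Y (w • (LinearMap.id : Γ(Y.left, ⊤) →ₗ[Γ(Y.left, ⊤)] Γ(Y.left, ⊤))) ≫ P u (epsX x) =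
      P u (epsX (w * x)) := by
  rw [P_comp, epsX]
  erw [sqMap_fn]
  rw [TrivSqZeroExt.map_inr]
  rfl

section Change

variable {Y' : Over S} [IsAffine Y'.left] (c : Y' ⟶ Y)

/-- Change of base of dual numbers. -/
noncomputable def dualMap : dual Y' ⟶ dual Y :=
  extMap _ _ c (tszeMap c.left.appTop.hom) (by
    refine RingHom.ext fun a => ?_
    refine TrivSqZeroExt.ext ?_ ?_ <;> simp [TrivSqZeroExt.algebraMap_eq_inl])

theorem dualMap_fn (r : DualNumber Γ(Y.left, ⊤)) :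
    (dualMap c).left.appTop (fn Y _ r) = fn Y' _ (tszeMap c.left.appTop.hom r) :=
  extMap_fn _ _ _ _ _ r

theorem dualMap_sqHom : dualMap c ≫ sqHom Y Γ(Y.left, ⊤) = sqHom Y' Γ(Y'.left, ⊤) ≫ c :=
  extMap_extHom _ _ _ _ _

theorem dualMap_epsX (x : Γ(Y.left, ⊤)) : (dualMap c).left.appTop (epsX x) = epsX (c.left.appTop x) := by
  rw [epsX, dualMap_fn, epsX]
  congr 1
  refine TrivSqZeroExt.ext ?_ ?_ <;> simp

theorem tn_dualMap {hY : Set.range Y.hom ⊆ (U : Set S)} {hY' : Set.range Y'.hom ⊆ (U : Set S)}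
    (a : dual Y ⟶ G) (b : Γ((chart G U).left, ⊤)) :
    tn hY' (dualMap c ≫ a) b = c.left.appTop (tn hY a b) := by
  rw [tn, dualMap, cdv_extMap _ _ _ _ hY hY' a b, tn]
  exact snd_tszeMap _ _

end Change

/-- Infinitesimal root elements with separated multipliers are independent. -/
theorem tn_independent {T : Over S} [GrpObj T] {i : T ⟶ G} {n : ℕ} {α : Fin n → (T ⟶ Red.Gm S)}
    {u : Fin n → (Red.Ga S ⟶ G)} [∀ k, IsMonHom (u k)] (hu : ∀ k, IsRootPts i (α k) (u k))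
    (hU : IsAffineOpen U) {hY : Set.range Y.hom ⊆ (U : Set S)} {Y' : Over S} [IsAffine Y'.left]
    (c : Y' ⟶ Y) (t : Y' ⟶ T)
    (hind : ∀ r : Fin n → Γ(Y.left, ⊤),
      ∑ k, Red.gmFn (t ≫ α k) * c.left.appTop (r k) = 0 → ∀ k, r k = 0)
    (x : Fin n → Γ(Y.left, ⊤)) (h : prodPts n (fun k => P (u k) (epsX (x k))) = 1) (k : Fin n) :
    P (u k) (epsX (x k)) = 1 := by
  have hY' := range_of_hom c hY
  let t₁ : dual Y' ⟶ T := sqHom Y' Γ(Y'.left, ⊤) ≫ t
  have h' := congrArg (dualMap c ≫ ·) h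
  simp only [comp_prodPts, MonObj.comp_one, P_comp, dualMap_epsX] at h'
  have hc := mul_prodPts (G := G) (t₁ ≫ i) (a := fun k => P (u k) (epsX (c.left.appTop (x k))))
    (b := fun k => P (u k) (epsX (Red.gmFn (t ≫ α k) * c.left.appTop (x k)))) (fun k => by
      rw [hu k]
      congr 2
      rw [Category.assoc, Gm.gmFn_comp, extHom_fn, epsX, epsX, ← map_mul, TrivSqZeroExt.algebraMap_eq_inl,
        TrivSqZeroExt.inl_mul_inr]
      rfl)
  rw [h', _root_.mul_one] at hc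
  have h1 : prodPts n (fun k => P (u k) (epsX (Red.gmFn (t ≫ α k) * c.left.appTop (x k)))) = 1 :=
    mul_eq_right.1 hc.symm
  refine tan_ext hU (hY := hY) (isTan_P_epsX _ _) isTan_one fun b => ?_
  rw [tn_one]
  have hsum := congrArg (fun a => tn hY' a b) h1
  simp only [tn_prodPts (fun k => isTan_P_epsX (u k) _), tn_one] at hsum
  refine hind (fun k => tn hY (P (u k) (epsX (x k))) b) ?_ k
  rw [← hsum]
  refine Finset.sum_congr rfl fun k _ => ?_
  rw [← sqMap_smul_epsX (u k), tn_sqMap, LinearMap.smul_apply, LinearMap.id_apply, smul_eq_mul,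
    ← dualMap_epsX, ← P_comp, tn_dualMap (hY := hY)]

end Groth.Agent.H82.Contract
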